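import Groth.Agent.AVDegPoly.RootCount
import Mathlib.Algebra.MvPolynomial.Funext
import Mathlib.NumberTheory.Padics.RingHoms
import Mathlib.RingTheory.MvPolynomial.Homogeneous
import Mathlib.Topology.Algebra.MvPolynomial
import Mathlib.Topology.Algebra.Module.Basic
import Mathlib.Topology.Instances.Matrix

/-!
Polynomial identities and `l`-adic continuity for the degree form.
-/

noncomputable section

set_option autoImplicit false

open Polynomial
open scoped Classical

namespace Groth.Agent.AVDegPoly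

/-- The coefficient vector of the monic polynomial with roots `c`. -/
def rootsCoeff {R : Type*} [CommRing R] {e : ℕ} (c : Fin e → R) : Fin (e + 1) → R :=
  fun j => (∏ i, (X - C (c i))).coeff j

theorem map_rootsCoeff {R S : Type*} [CommRing R] [CommRing S] (h : R →+* S) {e : ℕ} (c : Fin e → R) :
    (fun j => h (rootsCoeff c j)) = rootsCoeff (fun i => h (c i)) := by
  funext j
  rw [rootsCoeff, rootsCoeff, ← coeff_map, Polynomial.map_prod]
  simp

theorem homogeneous_eval_smul {σ R : Type*} [CommRing R] {P : MvPolynomial σ R} {n : ℕ} (hP : P.IsHomogeneous n)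
    (c : R) (x : σ → R) : MvPolynomial.eval (fun i => c * x i) P = c ^ n * MvPolynomial.eval x P := by
  rw [MvPolynomial.eval_eq, MvPolynomial.eval_eq, Finset.mul_sum]
  refine Finset.sum_congr rfl fun d hd => ?_
  have hdeg : ∑ i ∈ d.support, d i = n := by
    have := hP (MvPolynomial.mem_support_iff.1 hd)
    simpa [Finsupp.weight_apply, Finsupp.sum] using this
  simp only [mul_pow, Finset.prod_mul_distrib]
  rw [Finset.prod_pow_eq_pow_sum, hdeg]
  ring

/-- An identity at the root vectors avoiding finitely many values holds at all root vectors. -/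
theorem eval_rootsCoeff {n e : ℕ} (p : ℚ[X]) (Pe : MvPolynomial (Fin (e + 1)) ℚ) (bad : Finset ℤ)
    (h : ∀ c : Fin e → ℤ, (∀ i, c i ∉ bad) →
      MvPolynomial.eval (fun j => ((rootsCoeff c j : ℤ) : ℚ)) Pe = ∏ i, p.eval (c i : ℚ))
    (hn : p.natDegree = n) {K : Type*} [Field K] [Algebra ℚ K] (c : Fin e → K) :
    MvPolynomial.aeval (rootsCoeff c) Pe = ∏ i, aeval (c i) p := by
  let L : MvPolynomial (Fin e) ℚ := MvPolynomial.aeval (rootsCoeff fun i => MvPolynomial.X i) Pe
  let R : MvPolynomial (Fin e) ℚ := ∏ i, aeval (MvPolynomial.X i : MvPolynomial (Fin e) ℚ) p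
  have hLR : L = R := by
    refine MvPolynomial.funext_set (fun _ => ((↑) : ℤ → ℚ) '' (↑bad : Set ℤ)ᶜ)
      (fun _ => (bad.finite_toSet.infinite_compl).image Int.cast_injective.injOn) fun x hx => ?_
    choose c hc hcx using fun i => hx i trivial
    obtain rfl : (fun i => (c i : ℚ)) = x := funext hcx
    have hL : MvPolynomial.eval (fun i => (c i : ℚ)) L = MvPolynomial.eval (fun j => ((rootsCoeff c j : ℤ) : ℚ)) Pe := by
      have hv : (fun j => MvPolynomial.aeval (fun i => (c i : ℚ))
          (rootsCoeff (fun i : Fin e => (MvPolynomial.X i : MvPolynomial (Fin e) ℚ)) j)) =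
          fun j => ((rootsCoeff c j : ℤ) : ℚ) := by
        refine (map_rootsCoeff (MvPolynomial.aeval (fun i => (c i : ℚ)) : MvPolynomial (Fin e) ℚ →ₐ[ℚ] ℚ).toRingHom
          _).trans (Eq.trans ?_ (map_rootsCoeff (Int.castRingHom ℚ) c).symm)
        congr 1
        funext i
        simp
      rw [← MvPolynomial.aeval_eq_eval, MvPolynomial.comp_aeval_apply, hv]
      rfl
    rw [hL, h c fun i => Finset.mem_coe.not.1 (hc i), map_prod]
    refine Finset.prod_congr rfl fun i _ => ?_
    rw [← MvPolynomial.aeval_eq_eval, ← aeval_algHom_apply, MvPolynomial.aeval_X, Polynomial.coe_aeval_eq_eval]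
  have := congrArg (MvPolynomial.aeval c) hLR
  rw [MvPolynomial.comp_aeval_apply, map_prod] at this
  refine Eq.trans ?_ (this.trans (Finset.prod_congr rfl fun i _ => ?_))
  · congr 1
    congr 1
    have h1 := map_rootsCoeff (MvPolynomial.aeval c : MvPolynomial (Fin e) ℚ →ₐ[ℚ] K).toRingHom
      (fun i : Fin e => (MvPolynomial.X i : MvPolynomial (Fin e) ℚ))
    refine Eq.trans ?_ h1.symm
    congr 1
    funext i
    simp
  · rw [← aeval_algHom_apply, MvPolynomial.aeval_X]

variable (l : ℕ) [Fact l.Prime]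

/-- Agreement of norms on integer vectors with nonzero determinant gives agreement everywhere. -/
theorem norm_eval_eq_norm_det {n e : ℕ} (M₀ : Matrix (Fin n) (Fin n) ℤ_[l]) (Pe : MvPolynomial (Fin (e + 1)) ℚ)
    (hPe : Pe.IsHomogeneous n)
    (h : ∀ a : Fin (e + 1) → ℤ, (∑ j, (a j : ℤ_[l]) • M₀ ^ (j : ℕ)).det ≠ 0 →
      ‖(MvPolynomial.eval (fun j => (a j : ℚ)) Pe : ℚ_[l])‖ = ‖(∑ j, (a j : ℤ_[l]) • M₀ ^ (j : ℕ)).det‖)
    (a : Fin (e + 1) → ℚ_[l]) :
    ‖MvPolynomial.aeval a Pe‖ = ‖(∑ j, a j • (M₀.map ((↑) : ℤ_[l] → ℚ_[l])) ^ (j : ℕ)).det‖ := by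
  let D : (Fin (e + 1) → ℤ_[l]) → ℝ := fun a => ‖(∑ j, a j • M₀ ^ (j : ℕ)).det‖
  let U : (Fin (e + 1) → ℤ_[l]) → ℝ := fun a => ‖MvPolynomial.aeval (fun j => (a j : ℚ_[l])) Pe‖
  have hD : Continuous D := by
    refine continuous_norm.comp (Continuous.matrix_det ?_)
    exact continuous_finsetSum _ fun j _ => (continuous_apply j).smul continuous_const
  have hU : Continuous U := by
    refine continuous_norm.comp ?_
    have : (fun a : Fin (e + 1) → ℤ_[l] => MvPolynomial.aeval (fun j => (a j : ℚ_[l])) Pe) =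
        fun a => MvPolynomial.eval (fun j => (a j : ℚ_[l])) (MvPolynomial.map (algebraMap ℚ ℚ_[l]) Pe) := by
      funext a
      rw [MvPolynomial.eval_map, MvPolynomial.aeval_def]
    rw [this]
    exact (MvPolynomial.continuous_eval _).comp
      (continuous_pi fun j => (continuous_subtype_val.comp (continuous_apply j)))
  have hint : ∀ a : Fin (e + 1) → ℤ, U (fun j => (a j : ℤ_[l])) = D fun j => (a j : ℤ_[l]) := by
    intro a
    let t : ℕ → (Fin (e + 1) → ℤ) := fun N => Function.update a 0 (a 0 + (l : ℤ) ^ N)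
    have ht : Filter.Tendsto (fun N => fun j => (t N j : ℤ_[l])) Filter.atTop (nhds fun j => (a j : ℤ_[l])) := by
      refine tendsto_pi_nhds.2 fun j => ?_
      by_cases hj : j = 0
      · subst hj
        simp only [t, Function.update_self, Int.cast_add, Int.cast_pow, Int.cast_natCast]
        have h0 : Filter.Tendsto (fun N : ℕ => (l : ℤ_[l]) ^ N) Filter.atTop (nhds 0) :=
          tendsto_pow_atTop_nhds_zero_of_norm_lt_one (by
            rw [PadicInt.norm_p]
            exact inv_lt_one_of_one_lt₀ (by exact_mod_cast (Fact.out : l.Prime).one_lt))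
        simpa using tendsto_const_nhds.add h0
      · simp only [t, Function.update_of_ne hj]
        exact tendsto_const_nhds
    have hdet : ∀ᶠ N in Filter.atTop, (∑ j, (t N j : ℤ_[l]) • M₀ ^ (j : ℕ)).det ≠ 0 := by
      set B := ∑ j, (a j : ℤ_[l]) • M₀ ^ (j : ℕ)
      have heq : ∀ N, ∑ j, (t N j : ℤ_[l]) • M₀ ^ (j : ℕ) = Matrix.scalar (Fin n) ((l : ℤ_[l]) ^ N) - -B := by
        intro N
        rw [sub_neg_eq_add]
        simp only [B, Fin.sum_univ_succ, t, Function.update_self, Function.update_of_ne (Fin.succ_ne_zero _),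
          Fin.val_zero, pow_zero, Int.cast_add, Int.cast_pow, Int.cast_natCast, add_smul]
        rw [← add_assoc, add_comm (Matrix.scalar _ _), Matrix.scalar_apply, Matrix.smul_one_eq_diagonal,
          Matrix.smul_one_eq_diagonal]
      simp only [heq, ← Matrix.eval_charpoly]
      rw [← Nat.cofinite_eq_atTop]
      refine Filter.eventually_cofinite.2 (Set.Finite.subset (Set.Finite.preimage ?_
        (Polynomial.finite_setOf_isRoot (-B).charpoly_monic.ne_zero)) fun N hN => not_not.1 hN)
      intro N _ N' _ hNN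
      have := congrArg PadicInt.valuation hNN
      simpa [PadicInt.valuation_pow, PadicInt.valuation_p] using this
    refine tendsto_nhds_unique_of_eventuallyEq ((hU.tendsto _).comp ht) ((hD.tendsto _).comp ht) ?_
    filter_upwards [hdet] with N hN
    show ‖_‖ = ‖_‖
    rw [← h (t N) hN]
    congr 1
    show MvPolynomial.aeval (fun j => ((t N j : ℤ_[l]) : ℚ_[l])) Pe = _
    rw [show (fun j => ((t N j : ℤ_[l]) : ℚ_[l])) = fun j => Algebra.ofId ℚ ℚ_[l] (t N j : ℚ) from funext fun j => by simp,
      ← MvPolynomial.comp_aeval_apply, Algebra.ofId_apply, eq_ratCast]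
    rfl
  have hall : U = D := DenseRange.equalizer (DenseRange.piMap fun _ : Fin (e + 1) => PadicInt.denseRange_intCast) hU hD
    (funext hint)
  obtain ⟨N, hN⟩ : ∃ N : ℕ, ∀ j, ‖((l : ℚ_[l]) ^ N) * a j‖ ≤ 1 := by
    have : ∀ j, ∃ N : ℕ, ‖a j‖ ≤ (l : ℝ) ^ N := fun j =>
      (pow_unbounded_of_one_lt ‖a j‖ (by exact_mod_cast (Fact.out : l.Prime).one_lt)).imp fun _ h => h.le
    choose N hN using this
    refine ⟨Finset.univ.sup N, fun j => ?_⟩
    rw [norm_mul, norm_pow, Padic.norm_p, inv_pow,
      inv_mul_le_one₀ (pow_pos (by exact_mod_cast (Fact.out : l.Prime).pos) _)]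
    exact (hN j).trans (pow_le_pow_right₀ (by exact_mod_cast (Fact.out : l.Prime).one_le)
      (Finset.le_sup (Finset.mem_univ j)))
  let b : Fin (e + 1) → ℤ_[l] := fun j => ⟨(l : ℚ_[l]) ^ N * a j, hN j⟩
  have hb := congrFun hall b
  simp only [U, D] at hb
  rw [PadicInt.norm_def, show ((∑ j, b j • M₀ ^ (j : ℕ)).det : ℚ_[l]) = PadicInt.Coe.ringHom (∑ j, b j • M₀ ^ (j : ℕ)).det
    from rfl, RingHom.map_det] at hb
  have hmap : PadicInt.Coe.ringHom.mapMatrix (∑ j, b j • M₀ ^ (j : ℕ)) =
      ((l : ℚ_[l]) ^ N) • ∑ j, a j • (M₀.map ((↑) : ℤ_[l] → ℚ_[l])) ^ (j : ℕ) := by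
    rw [map_sum, Finset.smul_sum]
    refine Finset.sum_congr rfl fun j _ => ?_
    rw [smul_smul, show M₀.map ((↑) : ℤ_[l] → ℚ_[l]) = PadicInt.Coe.ringHom.mapMatrix M₀ from rfl, ← map_pow]
    ext i i'
    simp [b]
  rw [hmap, Matrix.det_smul, Fintype.card_fin, norm_mul] at hb
  have hU' : MvPolynomial.aeval (fun j => (b j : ℚ_[l])) Pe = ((l : ℚ_[l]) ^ N) ^ n * MvPolynomial.aeval a Pe := by
    rw [MvPolynomial.aeval_def, MvPolynomial.aeval_def, ← MvPolynomial.eval_map, ← MvPolynomial.eval_map]
    exact homogeneous_eval_smul (hPe.map _) _ _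
  rw [hU', norm_mul] at hb
  exact mul_left_cancel₀ (norm_ne_zero_iff.2 (pow_ne_zero _ (pow_ne_zero _
    (Nat.cast_ne_zero.2 (Fact.out : l.Prime).ne_zero)))) hb

/-- The key algebra: the degree polynomial is the characteristic polynomial. -/
theorem charpoly_eq_of_norms {n : ℕ} (hne : Even n) (M : Matrix (Fin n) (Fin n) ℚ_[l]) (p : ℚ[X]) (hp : p.Monic)
    (hd : p.natDegree = n)
    (h : ∀ e : ℕ, ∃ Pe : MvPolynomial (Fin (e + 1)) ℚ,
      (∀ c : Fin e → PadicAlgCl l, MvPolynomial.aeval (rootsCoeff c) Pe = ∏ i, aeval (c i) p) ∧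
      ∀ a : Fin (e + 1) → ℚ_[l], ‖MvPolynomial.aeval a Pe‖ = ‖(∑ j, a j • M ^ (j : ℕ)).det‖) :
    p.map (algebraMap ℚ ℚ_[l]) = M.charpoly := by
  let φ := algebraMap ℚ_[l] (PadicAlgCl l)
  let P := p.map (algebraMap ℚ ℚ_[l])
  have hP : P.Monic := hp.map _
  have hPd : P.natDegree = n := (hp.natDegree_map _).trans hd
  have key : ∀ G : ℚ_[l][X], G.Monic →
      ‖((P.aroots (PadicAlgCl l)).map fun x => aeval x G).prod‖ =
        ‖((M.charpoly.aroots (PadicAlgCl l)).map fun x => aeval x G).prod‖ := by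
    intro G hG
    obtain ⟨Pe, h1, h2⟩ := h G.natDegree
    have hGm : (G.map φ).Monic := hG.map _
    have hGd : (G.map φ).natDegree = G.natDegree := hG.natDegree_map _
    obtain ⟨c, hc⟩ := exists_fin_roots hGm
    let c' : Fin G.natDegree → PadicAlgCl l := fun i => c (i.cast hGd.symm)
    have hc' : G.map φ = ∏ i, (X - C (c' i)) := by
      rw [hc]
      exact (Fintype.prod_equiv (finCongr hGd.symm) _ _ fun i => rfl).symm
    have hcoef : rootsCoeff c' = fun j : Fin (G.natDegree + 1) => φ (G.coeff j) := by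
      funext j
      rw [rootsCoeff, ← hc', coeff_map]
    have hleft : ((P.aroots (PadicAlgCl l)).map fun x => aeval x G).prod =
        φ (MvPolynomial.aeval (fun j : Fin (G.natDegree + 1) => G.coeff j) Pe) := by
      rw [show φ (MvPolynomial.aeval (fun j : Fin (G.natDegree + 1) => G.coeff j) Pe) =
        MvPolynomial.aeval (rootsCoeff c') Pe from by
          rw [hcoef]
          exact MvPolynomial.comp_aeval_apply (fun j : Fin (G.natDegree + 1) => G.coeff j)
            ((Algebra.ofId ℚ_[l] (PadicAlgCl l)).restrictScalars ℚ) Pe, h1]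
      have hs := IsAlgClosed.splits (P.map φ)
      have hPr : ∀ x, aeval x p = ((P.aroots (PadicAlgCl l)).map fun ω => x - ω).prod := fun x => by
        rw [← aeval_map_algebraMap ℚ_[l] x p, aeval_def, ← eval_map]
        show eval x (P.map φ) = _
        conv_lhs => rw [hs.eq_prod_roots_of_monic (hP.map _), eval_multiset_prod, Multiset.map_map]
        simp [Function.comp_def, aroots_def, φ]
      have hGe : ∀ x, aeval x G = ∏ i, (x - c' i) := fun x => by
        rw [aeval_def, ← eval_map, show G.map (algebraMap ℚ_[l] (PadicAlgCl l)) = ∏ i, (X - C (c' i)) from hc',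
          eval_prod]
        simp
      have hcard : (P.aroots (PadicAlgCl l)).card = n := by
        rw [aroots_def, ← hs.natDegree_eq_card_roots, hP.natDegree_map, hPd]
      simp only [hPr, hGe]
      rw [← hcard] at hne
      clear hcard
      generalize P.aroots (PadicAlgCl l) = S at hne
      have : ∀ S : Multiset (PadicAlgCl l), (S.map fun ω => ∏ i, (ω - c' i)).prod =
          ∏ i, ((-1) ^ S.card * (S.map fun ω => c' i - ω).prod) := fun S => by
        induction S using Multiset.induction_on with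
        | empty => simp
        | cons a S ih =>
          rw [Multiset.map_cons, Multiset.prod_cons, ih, ← Finset.prod_mul_distrib]
          refine Finset.prod_congr rfl fun i _ => ?_
          rw [Multiset.map_cons, Multiset.prod_cons, Multiset.card_cons, pow_succ]
          ring
      rw [this]
      simp [hne.neg_one_pow]
    have hright : ((M.charpoly.aroots (PadicAlgCl l)).map fun x => aeval x G).prod =
        φ (∑ j : Fin (G.natDegree + 1), G.coeff j • M ^ (j : ℕ)).det := by
      rw [Fin.sum_univ_eq_sum_range (fun j => G.coeff j • M ^ j), ← aeval_eq_sum_range, RingHom.map_det,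
        show φ.mapMatrix (aeval M G) = aeval (φ.mapMatrix M) (G.map φ) from by
          rw [aeval_map_algebraMap]
          exact (aeval_algHom_apply ((Algebra.ofId ℚ_[l] (PadicAlgCl l)).mapMatrix) M G).symm,
        det_aeval, RingHom.mapMatrix_apply, Matrix.charpoly_map, rootsEval_apply]
      simp only [aeval_def, eval_map, aroots_def]
      rfl
    rw [hleft, hright, PadicAlgCl.norm_extends, PadicAlgCl.norm_extends, h2]
  refine eq_of_counts l hP M.charpoly_monic (by rw [hPd, Matrix.charpoly_natDegree_eq_dim, Fintype.card_fin])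
    fun g hgm hgi => count_zero_eq l _ _ fun N => ?_
  rw [Multiset.map_map, Multiset.map_map]
  have hk := key (g + C ((l : ℚ_[l]) ^ N)) (hgm.add_of_left (lt_of_le_of_lt degree_C_le (degree_pos_of_irreducible hgi)))
  simpa [Function.comp_def, P, aroots_map] using hk

end Groth.Agent.AVDegPoly
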