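import Groth.Agent.AVDegPoly.DetVal
import Groth.Agent.AVDegPoly.PadicPoly
import Groth.Agent.AVHomLib.MinPoly
import Mathlib.LinearAlgebra.Charpoly.ToMatrix

/-!
The characteristic polynomial of an endomorphism of an abelian variety.
-/

noncomputable section

set_option autoImplicit false
set_option linter.style.haveILetI false
set_option linter.unusedSectionVars false
set_option backward.isDefEq.respectTransparency false
set_option backward.isDefEq.respectTransparency.types false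
set_option synthInstance.maxHeartbeats 200000
set_option maxHeartbeats 1000000

universe u

open CategoryTheory CategoryTheory.Limits MonoidalCategory CartesianMonoidalCategory MonObj AlgebraicGeometry
  TopologicalSpace
open scoped Classical

namespace Groth.Agent.AVDegPoly

open AVTorsLib

variable {k : Type u} [Field k] {A : Over (Spec (CommRingCat.of k))}
  [GrpObj A] [IsCommMonObj A] [IsProper A.hom] [GeometricallyIntegral A.hom]

/-- The rank of a finite endomorphism, and zero otherwise. -/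
def degE (φ : EndAV.End A) : ℕ :=
  if IsFinite φ.toHom.left then φ.toHom.left.finrank (η[A].left (IsLocalRing.closedPoint k)) else 0

theorem degE_eq {g : ℕ} (hg : topologicalKrullDim A.left = g) (φ : EndAV.End A) (h : IsFinite φ.toHom.left)
    (a : A.left) : degE φ = φ.toHom.left.finrank a := by
  haveI := h
  rw [degE, if_pos h]
  exact finrank_const hg hg _ _ _

theorem degE_zero_of_not_finite (φ : EndAV.End A) (h : ¬ IsFinite φ.toHom.left) : degE φ = 0 := by
  rw [degE, if_neg h]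

theorem degE_one : degE (1 : EndAV.End A) = 1 := by
  haveI h : IsFinite (1 : EndAV.End A).toHom.left := by
    rw [EndAV.End.toHom_one, Over.id_left]
    infer_instance
  rw [degE, if_pos h]
  simp [Scheme.Hom.finrank_eq_one_of_isIso]

theorem degE_mul {g : ℕ} (hg : topologicalKrullDim A.left = g) (φ ψ : EndAV.End A) (hφ : IsFinite φ.toHom.left)
    (hψ : IsFinite ψ.toHom.left) : IsFinite (φ * ψ).toHom.left ∧ degE (φ * ψ) = degE φ * degE ψ := by
  haveI := hφ
  haveI := hψ
  haveI h : IsFinite (φ * ψ).toHom.left := by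
    rw [EndAV.End.toHom_mul, Over.comp_left]
    infer_instance
  refine ⟨h, ?_⟩
  let a := η[A].left (IsLocalRing.closedPoint k)
  rw [degE_eq hg _ h a, degE_eq hg _ hφ a, degE_eq hg _ hψ a, mul_comm]
  exact finrank_comp hg hg hg ψ.toHom φ.toHom _ (EndAV.End.toHom_mul φ ψ).symm a a

variable (Ω : Type u) [Field Ω] [Algebra k Ω] [IsAlgClosed Ω] (l : ℕ) [hl : Fact l.Prime] {g : ℕ}

theorem isFinite_iff_det (hlk : (l : k) ≠ 0) (hg : topologicalKrullDim A.left = g) (φ : EndAV.End A) :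
    IsFinite φ.toHom.left ↔ LinearMap.det (EndAV.End.tateRep l (SGA7.pt (K := k) Ω) φ) ≠ 0 := by
  rw [EndAV.End.tateRep_apply]
  refine ⟨fun h => ?_, fun h => isFinite_of_det_ne_zero Ω l hlk hg φ.toHom h⟩
  haveI := h
  exact det_tateMap_ne_zero Ω l hlk hg φ.toHom

theorem norm_degE (hlk : (l : k) ≠ 0) (hg : topologicalKrullDim A.left = g) (φ : EndAV.End A)
    (h : LinearMap.det (EndAV.End.tateRep l (SGA7.pt (K := k) Ω) φ) ≠ 0) :
    ‖((degE φ : ℕ) : ℚ_[l])‖ = ‖LinearMap.det (EndAV.End.tateRep l (SGA7.pt (K := k) Ω) φ)‖ := by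
  haveI hf := (isFinite_iff_det Ω l hlk hg φ).2 h
  let a := η[A].left (IsLocalRing.closedPoint k)
  have hpos : degE φ ≠ 0 := by rw [degE_eq hg φ hf a]; exact (finrank_pos hg hg φ.toHom a).ne'
  have hne : (degE φ : ℤ_[l]) ≠ 0 := Nat.cast_ne_zero.2 hpos
  rw [← PadicInt.coe_natCast, ← PadicInt.norm_def, PadicInt.norm_eq_zpow_neg_valuation hne,
    PadicInt.norm_eq_zpow_neg_valuation h, valuation_natCast, degE_eq hg φ hf a,
    ← valuation_det_endo Ω l hlk hg φ.toHom a]
  rfl

/-- Evaluation of integral polynomials at an endomorphism. -/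
def evalEnd (φ : EndAV.End A) : Polynomial ℤ →+* EndAV.End A :=
  Polynomial.eval₂RingHom' (Int.castRingHom _) φ fun a => Int.cast_commute a φ

theorem evalEnd_eq_sum (φ : EndAV.End A) {e : ℕ} (G : Polynomial ℤ) (hG : G.natDegree ≤ e) :
    evalEnd φ G = ∑ j : Fin (e + 1), G.coeff j • φ ^ (j : ℕ) := by
  rw [Fin.sum_univ_eq_sum_range (fun j => G.coeff j • φ ^ j) (e + 1)]
  show G.eval₂ _ φ = _
  rw [Polynomial.eval₂_eq_sum_range' _ (Nat.lt_succ_of_le hG)]
  exact Finset.sum_congr rfl fun j _ => (zsmul_eq_mul _ _).symm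

/-- The degree polynomial of an endomorphism with its values. -/
theorem exists_form (hg : topologicalKrullDim A.left = g) (φ : EndAV.End A) :
    ∃ p : Polynomial ℚ, p.Monic ∧ p.natDegree = 2 * g ∧
      (∀ n : ℤ, IsFinite (φ - (n : EndAV.End A)).toHom.left → (degE (φ - (n : EndAV.End A)) : ℚ) = p.eval (n : ℚ)) := by
  obtain ⟨Q, hQ, hv⟩ := exists_deg_poly hg ![φ, (1 : EndAV.End A)]
  let p : Polynomial ℚ := MvPolynomial.aeval ![(1 : Polynomial ℚ), -Polynomial.X] Q
  have hp : p = ∑ d ∈ Q.support, Polynomial.C (Q.coeff d) * (-Polynomial.X) ^ d 1 := by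
    rw [show p = MvPolynomial.eval₂ (algebraMap ℚ (Polynomial ℚ)) ![(1 : Polynomial ℚ), -Polynomial.X] Q from rfl,
      MvPolynomial.eval₂_eq']
    refine Finset.sum_congr rfl fun d _ => ?_
    simp [Fin.prod_univ_two]
  have hdeg : ∀ d ∈ Q.support, d 0 + d 1 = 2 * g := fun d hd => by
    have := hQ (MvPolynomial.mem_support_iff.1 hd)
    rwa [Finsupp.weight_apply, Finsupp.sum_fintype _ _ (fun i => by simp), Fin.sum_univ_two,
      Pi.one_apply, Pi.one_apply, smul_eq_mul, smul_eq_mul, Nat.mul_one, Nat.mul_one] at this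
  have hle : p.natDegree ≤ 2 * g := by
    rw [hp]
    refine Polynomial.natDegree_sum_le_of_forall_le _ _ fun d hd => ?_
    refine (Polynomial.natDegree_C_mul_le _ _).trans (Polynomial.natDegree_pow_le.trans ?_)
    simp only [Polynomial.natDegree_neg, Polynomial.natDegree_X, Nat.mul_one]
    exact (Nat.le_add_left _ _).trans (hdeg d hd).le
  have htop : p.coeff (2 * g) = 1 := by
    have h1 : (MvPolynomial.eval (fun i => ((![0, 1] : Fin 2 → ℤ) i : ℚ)) Q) = 1 := by
      have hs : ∑ i, (![0, 1] : Fin 2 → ℤ) i • (![φ, (1 : EndAV.End A)]) i = 1 := by simp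
      have hf : IsFinite (1 : EndAV.End A).toHom.left := by
        rw [EndAV.End.toHom_one, Over.id_left]; infer_instance
      have := hv ![0, 1] (by rw [hs]; exact hf) (η[A].left (IsLocalRing.closedPoint k))
      rw [← this, hs, ← degE_eq hg _ hf, degE_one, Nat.cast_one]
    rw [← h1, hp, Polynomial.finset_sum_coeff, MvPolynomial.eval_eq']
    refine Finset.sum_congr rfl fun d hd => ?_
    rw [Polynomial.coeff_C_mul, neg_pow, ← Polynomial.C_1, ← map_neg, ← map_pow, Polynomial.coeff_C_mul,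
      Polynomial.coeff_X_pow, Fin.prod_univ_two]
    by_cases h : d 0 = 0
    · have hd1 : d 1 = 2 * g := by have := hdeg d hd; omega
      simp [h, hd1, even_two_mul g |>.neg_one_pow]
    · have hd1 : ¬ (2 * g = d 1) := by have := hdeg d hd; omega
      simp [h, hd1]
  have hnd : p.natDegree = 2 * g :=
    le_antisymm hle (Polynomial.le_natDegree_of_ne_zero (by rw [htop]; exact one_ne_zero))
  refine ⟨p, ?_, hnd, fun n hn => ?_⟩
  · rw [Polynomial.Monic, Polynomial.leadingCoeff, hnd, htop]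
  · have hs : ∑ i, (![1, -n] : Fin 2 → ℤ) i • (![φ, (1 : EndAV.End A)]) i = φ - n := by
      simp [sub_eq_add_neg]
    have h := hv ![1, -n] (by rw [hs]; exact hn) (η[A].left (IsLocalRing.closedPoint k))
    rw [hs, ← degE_eq hg _ hn] at h
    rw [h, ← Polynomial.coe_evalRingHom, show p = MvPolynomial.aeval ![(1 : Polynomial ℚ), -Polynomial.X] Q from rfl]
    rw [show MvPolynomial.aeval ![(1 : Polynomial ℚ), -Polynomial.X] Q = MvPolynomial.eval₂ (algebraMap ℚ _) _ Q from rfl,
      MvPolynomial.eval₂_comp_left]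
    refine congrArg₂ (fun f v => MvPolynomial.eval₂ f v Q) (RingHom.ext fun x => by simp) ?_
    funext i
    fin_cases i <;> simp

variable [Module.Free ℤ_[l] (AbDual.TateMod A l (SGA7.pt (K := k) Ω))]
  [Module.Finite ℤ_[l] (AbDual.TateMod A l (SGA7.pt (K := k) Ω))]

theorem charpoly_map_eq (hlk : (l : k) ≠ 0) (hg : topologicalKrullDim A.left = g) (φ : EndAV.End A)
    (p : Polynomial ℚ) (hp : p.Monic) (hd : p.natDegree = 2 * g)
    (hv : ∀ n : ℤ, IsFinite (φ - (n : EndAV.End A)).toHom.left → (degE (φ - (n : EndAV.End A)) : ℚ) = p.eval (n : ℚ)) :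
    p.map (algebraMap ℚ ℚ_[l]) =
      (EndAV.End.tateRep l (SGA7.pt (K := k) Ω) φ).charpoly.map PadicInt.Coe.ringHom := by
  obtain ⟨b⟩ := nonempty_basis (A := A) Ω l hlk hg
  set ρ := EndAV.End.tateRep (A := A) l (SGA7.pt (K := k) Ω)
  let mx := LinearMap.toMatrixAlgEquiv b
  set M₀ := mx (ρ φ) with hM₀
  rw [← LinearMap.charpoly_toMatrix (ρ φ) b, ← Matrix.charpoly_map]
  -- the finitely many excluded integers
  have hbad : {n : ℤ | ¬ IsFinite (φ - n).toHom.left}.Finite := by
    refine ((Polynomial.finite_setOf_isRoot M₀.charpoly_monic.ne_zero).preimage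
      (Int.cast_injective (α := ℤ_[l])).injOn).subset fun n hn => ?_
    have h0 : LinearMap.det (ρ (φ - n)) = 0 := not_not.1 fun h => hn ((isFinite_iff_det Ω l hlk hg _).2 h)
    show M₀.charpoly.IsRoot (n : ℤ_[l])
    rw [Polynomial.IsRoot, Matrix.eval_charpoly]
    rw [← LinearMap.det_toMatrix b, show LinearMap.toMatrix b b (ρ (φ - n)) = mx (ρ (φ - n)) from rfl, map_sub,
      map_intCast, map_sub, map_intCast] at h0
    rw [show Matrix.scalar (Fin (2 * g)) (n : ℤ_[l]) = ((n : ℤ) : Matrix (Fin (2 * g)) (Fin (2 * g)) ℤ_[l]) from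
      map_intCast _ n, ← neg_sub M₀, Matrix.det_neg, h0, mul_zero]
  refine charpoly_eq_of_norms l (even_two_mul g) _ p hp hd fun e => ?_
  obtain ⟨Pe, hPe, hval⟩ := exists_deg_poly hg (fun j : Fin (e + 1) => φ ^ (j : ℕ))
  have hval' : ∀ a : Fin (e + 1) → ℤ, IsFinite (∑ j, a j • φ ^ (j : ℕ)).toHom.left →
      (degE (∑ j, a j • φ ^ (j : ℕ)) : ℚ) = MvPolynomial.eval (fun j => (a j : ℚ)) Pe := fun a ha => by
    rw [degE_eq hg _ ha (η[A].left (IsLocalRing.closedPoint k))]
    exact hval a ha _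
  refine ⟨Pe, fun c => eval_rootsCoeff p Pe hbad.toFinset (fun c hc => ?_) hd c,
    fun a => norm_eval_eq_norm_det l M₀ Pe hPe (fun a ha => ?_) a⟩
  · have hfin : ∀ i, IsFinite (φ - (c i : EndAV.End A)).toHom.left := fun i =>
      not_not.1 fun h => hc i (hbad.mem_toFinset.2 h)
    have hprod : ∀ s : Finset (Fin e), IsFinite (evalEnd φ (∏ i ∈ s, (Polynomial.X - Polynomial.C (c i)))).toHom.left ∧
        (degE (evalEnd φ (∏ i ∈ s, (Polynomial.X - Polynomial.C (c i)))) : ℚ) = ∏ i ∈ s, p.eval (c i : ℚ) := by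
      intro s
      induction s using Finset.induction_on with
      | empty =>
        rw [Finset.prod_empty, Finset.prod_empty, map_one]
        exact ⟨by rw [EndAV.End.toHom_one, Over.id_left]; infer_instance, by rw [degE_one, Nat.cast_one]⟩
      | insert i s hi ih =>
        have h1 : evalEnd φ (Polynomial.X - Polynomial.C (c i)) = φ - (c i : EndAV.End A) := by
          show Polynomial.eval₂ (Int.castRingHom (EndAV.End A)) φ _ = _
          rw [Polynomial.eval₂_sub, Polynomial.eval₂_X, Polynomial.eval₂_C]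
          rfl
        rw [Finset.prod_insert hi, Finset.prod_insert hi, map_mul, h1]
        obtain ⟨h2, h3⟩ := degE_mul hg _ _ (hfin i) ih.1
        exact ⟨h2, by rw [h3, Nat.cast_mul, hv _ (hfin i), ih.2]⟩
    obtain ⟨h1, h2⟩ := hprod Finset.univ
    rw [evalEnd_eq_sum φ (e := e) _ (by rw [Polynomial.natDegree_finsetProd_X_sub_C_eq_card]; simp)] at h1 h2
    exact (hval' _ h1).symm.trans h2
  · have h1 : mx (ρ (∑ j, a j • φ ^ (j : ℕ))) = ∑ j, (a j : ℤ_[l]) • M₀ ^ (j : ℕ) := by
      rw [map_sum, map_sum]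
      refine Finset.sum_congr rfl fun j _ => ?_
      rw [zsmul_eq_mul, map_mul, map_intCast, map_pow, map_mul, map_intCast, map_pow, ← zsmul_eq_mul,
        Int.cast_smul_eq_zsmul]
    have h2 : LinearMap.det (ρ (∑ j, a j • φ ^ (j : ℕ))) = (∑ j, (a j : ℤ_[l]) • M₀ ^ (j : ℕ)).det := by
      rw [← h1, ← LinearMap.det_toMatrix b]
      rfl
    rw [← h2] at ha ⊢
    rw [← hval' a ((isFinite_iff_det Ω l hlk hg _).2 ha), Rat.cast_natCast, norm_degE Ω l hlk hg _ ha]

theorem isRoot_int (hlk : (l : k) ≠ 0) (hg : topologicalKrullDim A.left = g) (φ : EndAV.End A) :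
    ∃ H : Polynomial ℤ, H.Monic ∧ ∀ x ∈ ((EndAV.End.tateRep l (SGA7.pt (K := k) Ω) φ).charpoly.map
      PadicInt.Coe.ringHom).aroots (PadicAlgCl l), Polynomial.aeval x H = 0 := by
  obtain ⟨hfin, hfree⟩ := AVHomLib.hom_free (A := A) (B := A)
  haveI : Module.Finite ℤ (EndAV.End A) := hfin
  haveI : Module.Free ℤ (EndAV.End A) := hfree
  obtain ⟨H, hH, hH0, -⟩ := AVHomLib.exists_monic_int φ
  refine ⟨H, hH, ?_⟩
  obtain ⟨b⟩ := nonempty_basis (A := A) Ω l hlk hg
  set ρ := EndAV.End.tateRep (A := A) l (SGA7.pt (K := k) Ω)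
  let ψ : ℤ_[l] →+* PadicAlgCl l := (algebraMap ℚ_[l] (PadicAlgCl l)).comp PadicInt.Coe.ringHom
  let F : EndAV.End A →+* Matrix (Fin (2 * g)) (Fin (2 * g)) (PadicAlgCl l) :=
    (ψ.mapMatrix.comp (LinearMap.toMatrixAlgEquiv b).toRingEquiv.toRingHom).comp ρ
  have hM : Polynomial.aeval (F φ) H = 0 := by
    have h := congrArg F hH0
    rw [map_zero, Polynomial.hom_eval₂] at h
    rw [Polynomial.aeval_def]
    refine Eq.trans ?_ h
    congr 1
    exact RingHom.ext_int _ _
  have hS : ∀ s ∈ (F φ).charpoly.roots.map (fun x => Polynomial.aeval x H), s = 0 := by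
    refine eq_zero_of_prod_add_eq _ fun t => ?_
    have h := det_aeval (F φ) (H.map (algebraMap ℤ (PadicAlgCl l)) + Polynomial.C t)
    rw [map_add, Polynomial.aeval_map_algebraMap, hM, zero_add, Polynomial.aeval_C, Matrix.algebraMap_eq_diagonal,
      Matrix.det_diagonal, rootsEval_apply] at h
    simp only [Pi.algebraMap_apply, Algebra.algebraMap_self, RingHom.id_apply, Finset.prod_const, Finset.card_univ, Fintype.card_fin] at h
    rw [Multiset.map_map, Multiset.card_map, ← (IsAlgClosed.splits (F φ).charpoly).natDegree_eq_card_roots,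
      Matrix.charpoly_natDegree_eq_dim, Fintype.card_fin]
    simpa [Function.comp_def, Polynomial.eval_map, Polynomial.aeval_def] using h.symm
  intro x hx
  refine hS _ (Multiset.mem_map_of_mem _ ?_)
  rwa [← LinearMap.charpoly_toMatrix (ρ φ) b, Polynomial.aroots_def, Polynomial.map_map, ← Matrix.charpoly_map] at hx

omit [Module.Free ℤ_[l] (AbDual.TateMod A l (SGA7.pt (K := k) Ω))] in
omit [Module.Finite ℤ_[l] (AbDual.TateMod A l (SGA7.pt (K := k) Ω))] in
/-- The characteristic polynomial: integral, giving the degrees, and that of every Tate representation. -/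
theorem exists_charpoly (hg : topologicalKrullDim A.left = g) (φ : EndAV.End A) :
    ∃ P : Polynomial ℤ, P.Monic ∧ P.natDegree = 2 * g ∧
      (∀ n : ℤ, (IsFinite (φ - (n : EndAV.End A)).toHom.left → ∀ a : A.left, ((φ - (n : EndAV.End A)).toHom.left.finrank a : ℤ) = P.eval n) ∧
        (¬ IsFinite (φ - (n : EndAV.End A)).toHom.left → P.eval n = 0)) ∧
      ∀ (Ω' : Type u) [Field Ω'] [Algebra k Ω'] [IsAlgClosed Ω'] (l' : ℕ) [Fact l'.Prime], (l' : k) ≠ 0 →
        ∀ [Module.Free ℤ_[l'] (AbDual.TateMod A l' (SGA7.pt (K := k) Ω'))]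
          [Module.Finite ℤ_[l'] (AbDual.TateMod A l' (SGA7.pt (K := k) Ω'))],
          (EndAV.End.tateRep l' (SGA7.pt (K := k) Ω') φ).charpoly = P.map (Int.castRingHom ℤ_[l']) := by
  obtain ⟨p, hp, hd, hv⟩ := exists_form hg φ
  let Ω₀ := AlgebraicClosure k
  obtain ⟨l₀, hl₀, hlk₀⟩ : ∃ l : ℕ, l.Prime ∧ (l : k) ≠ 0 := by
    by_cases h2 : ((2 : ℕ) : k) = 0
    · refine ⟨3, Nat.prime_three, fun h3 => one_ne_zero (α := k) ?_⟩
      calc (1 : k) = ((3 : ℕ) : k) - ((2 : ℕ) : k) := by norm_num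
        _ = 0 := by rw [h3, h2, sub_zero]
    · exact ⟨2, Nat.prime_two, h2⟩
  haveI : Fact l₀.Prime := ⟨hl₀⟩
  obtain ⟨hfree, hfin, -⟩ := finrank_tateMod (A := A) Ω₀ l₀ hlk₀ hg
  haveI := hfree
  haveI := hfin
  have hQ := charpoly_map_eq Ω₀ l₀ hlk₀ hg φ p hp hd hv
  obtain ⟨H, hH, hH0⟩ := isRoot_int Ω₀ l₀ hlk₀ hg φ
  rw [← hQ] at hH0
  have hdvd : p ∣ (H ^ (2 * g)).map (algebraMap ℤ ℚ) := by
    rw [← Polynomial.map_dvd_map' (algebraMap ℚ (PadicAlgCl l₀)), Polynomial.map_map]
    have hs := IsAlgClosed.splits (p.map (algebraMap ℚ (PadicAlgCl l₀)))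
    conv_lhs => rw [hs.eq_prod_roots_of_monic (hp.map _)]
    have hr : p.map (algebraMap ℚ (PadicAlgCl l₀)) =
        (p.map (algebraMap ℚ ℚ_[l₀])).map (algebraMap ℚ_[l₀] (PadicAlgCl l₀)) := by
      rw [Polynomial.map_map, ← IsScalarTower.algebraMap_eq]
    have hcard : (p.map (algebraMap ℚ (PadicAlgCl l₀))).roots.card = 2 * g := by
      rw [← hs.natDegree_eq_card_roots, hp.natDegree_map, hd]
    have h := prod_X_sub_C_dvd_pow (p.map (algebraMap ℚ (PadicAlgCl l₀))).roots
      (H.map (algebraMap ℤ (PadicAlgCl l₀))) fun s hs' => by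
        rw [Polynomial.eval_map, ← Polynomial.aeval_def]
        exact hH0 s (by rw [Polynomial.aroots_def, ← hr]; exact hs')
    rw [hcard, ← Polynomial.map_pow] at h
    rwa [← IsScalarTower.algebraMap_eq]
  obtain ⟨P, hP⟩ := IsIntegrallyClosed.eq_map_mul_C_of_dvd ℚ (hH.pow _) hdvd
  rw [hp.leadingCoeff, map_one, _root_.mul_one] at hP
  have hPm : P.Monic := Polynomial.monic_of_injective (algebraMap ℤ ℚ).injective_int (hP ▸ hp)
  have heval : ∀ n : ℤ, p.eval (n : ℚ) = ((P.eval n : ℤ) : ℚ) := fun n => by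
    rw [← hP, Polynomial.eval_map, ← eq_intCast (algebraMap ℤ ℚ) n, Polynomial.eval₂_at_apply]
    simp
  have hcp : ∀ (Ω' : Type u) [Field Ω'] [Algebra k Ω'] [IsAlgClosed Ω'] (l' : ℕ) [Fact l'.Prime], (l' : k) ≠ 0 →
      ∀ [Module.Free ℤ_[l'] (AbDual.TateMod A l' (SGA7.pt (K := k) Ω'))]
        [Module.Finite ℤ_[l'] (AbDual.TateMod A l' (SGA7.pt (K := k) Ω'))],
        (EndAV.End.tateRep l' (SGA7.pt (K := k) Ω') φ).charpoly = P.map (Int.castRingHom ℤ_[l']) := by
    intro Ω' _ _ _ l' _ hlk' _ _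
    refine Polynomial.map_injective PadicInt.Coe.ringHom Subtype.coe_injective ?_
    rw [← charpoly_map_eq Ω' l' hlk' hg φ p hp hd hv, Polynomial.map_map, ← hP, Polynomial.map_map]
    congr 1
  refine ⟨P, hPm, ?_, fun n => ⟨fun h a => ?_, fun h => ?_⟩, hcp⟩
  · rw [← hd, ← hP, hPm.natDegree_map]
  · have := hv n h
    rw [heval, degE_eq hg _ h a] at this
    exact_mod_cast this
  · have h0 : LinearMap.det (EndAV.End.tateRep l₀ (SGA7.pt (K := k) Ω₀) (φ - (n : EndAV.End A))) = 0 :=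
      not_not.1 fun h' => h ((isFinite_iff_det Ω₀ l₀ hlk₀ hg _).2 h')
    obtain ⟨b⟩ := nonempty_basis (A := A) Ω₀ l₀ hlk₀ hg
    have h1 := Polynomial.eval_map_apply (Int.castRingHom ℤ_[l₀]) n (p := P)
    rw [← hcp Ω₀ l₀ hlk₀, ← LinearMap.charpoly_toMatrix _ b, Matrix.eval_charpoly] at h1
    rw [← LinearMap.det_toMatrix b, show LinearMap.toMatrix b b _ = LinearMap.toMatrixAlgEquiv b _ from rfl, map_sub,
      map_intCast, map_sub, map_intCast] at h0
    rw [show Matrix.scalar (Fin (2 * g)) (Int.castRingHom ℤ_[l₀] n) =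
      ((n : ℤ) : Matrix (Fin (2 * g)) (Fin (2 * g)) ℤ_[l₀]) from map_intCast _ n] at h1
    rw [show LinearMap.toMatrix b b (EndAV.End.tateRep l₀ (SGA7.pt (K := k) Ω₀) φ) =
      LinearMap.toMatrixAlgEquiv b _ from rfl, ← neg_sub (LinearMap.toMatrixAlgEquiv b _), Matrix.det_neg, h0,
      mul_zero] at h1
    exact Int.cast_eq_zero.1 h1.symm

/-- The degree is the determinant on the Tate module. -/
theorem det_eq_degE (hlk : (l : k) ≠ 0) (hg : topologicalKrullDim A.left = g) (φ : EndAV.End A) :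
    LinearMap.det (EndAV.End.tateRep l (SGA7.pt (K := k) Ω) φ) = (degE φ : ℤ_[l]) := by
  obtain ⟨P, hP, hd, hval, hcp⟩ := exists_charpoly hg φ
  have hcast : LinearMap.det (EndAV.End.tateRep l (SGA7.pt (K := k) Ω) φ) = ((P.eval 0 : ℤ) : ℤ_[l]) := by
    rw [LinearMap.det_eq_sign_charpoly_coeff, hcp Ω l hlk, (finrank_tateMod (A := A) Ω l hlk hg).2.2,
      (even_two_mul g).neg_one_pow, _root_.one_mul, Polynomial.coeff_map, Polynomial.coeff_zero_eq_eval_zero]
    rfl
  rw [hcast]
  have h := hval 0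
  simp only [Int.cast_zero, sub_zero] at h
  by_cases hf : IsFinite φ.toHom.left
  · rw [degE_eq hg φ hf (η[A].left (IsLocalRing.closedPoint k)), ← h.1 hf, Int.cast_natCast]
  · rw [degE_zero_of_not_finite φ hf, h.2 hf]
    simp

end Groth.Agent.AVDegPoly
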