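import Groth.Agent.AVTorsLib.Tate
import Mathlib.GroupTheory.PGroup

/-!
Torsion points in the kernel of a homomorphism with divisible Tate images.
-/

set_option autoImplicit false
set_option linter.style.haveILetI false
set_option linter.unusedSectionVars false

universe u

open CategoryTheory MonoidalCategory CartesianMonoidalCategory MonObj AlgebraicGeometry

namespace Groth.Agent.AVDegPoly

open AVTorsLib

variable {S : Scheme.{u}} {A B : Over S} [GrpObj A] [IsCommMonObj A] [GrpObj B] [IsCommMonObj B]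
  {T : Over S} {l : ℕ} [hl : Fact l.Prime]

theorem exists_ker_subgroup (hdiv : ∀ x : Additive (T ⟶ A), ∃ y, l • y = x) (r : ℕ)
    (hcard : ∀ m, Nat.card (tor (l ^ m) : AddSubgroup (Additive (T ⟶ A))) = (l ^ m) ^ r)
    (x : Module.Basis (Fin r) ℤ_[l] (AbDual.TateMod A l T)) (φ : A ⟶ B) [IsMonHom φ] (v : Fin r → ℕ)
    (hx : ∀ i, ∃ w, AbDual.tateMapₗ (l := l) (T := T) φ (x i) = (l ^ v i) • w) :
    ∃ (s : ℕ) (G : Subgroup (T ⟶ A)), (∀ a ∈ G, a ≫ φ = 1) ∧ Nat.card G = l ^ s ∧ ∑ i, v i ≤ s := by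
  classical
  set m := ∑ i, v i with hm
  have hvm : ∀ i, v i ≤ m := fun i => Finset.single_le_sum (fun j _ => Nat.zero_le (v j)) (Finset.mem_univ i)
  let P := Additive (T ⟶ A)
  let xc : Fin r → ℕ → P := fun i n => (x i : ℕ → P) n
  let f : (Fin r → Fin (l ^ m)) → (tor (l ^ m) : AddSubgroup P) := fun c =>
    ⟨∑ i, (c i : ℕ) • xc i m, sum_mem fun i _ => nsmul_mem ((x i).torsion m) _⟩
  have hfs : Function.Surjective f := by
    rintro ⟨p, hp⟩
    obtain ⟨z, hz⟩ := exists_component_eq hdiv m p.toMul (congrArg Additive.toMul hp)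
    refine ⟨fun i => ⟨(x.repr z i).appr m, PadicInt.appr_lt _ _⟩, Subtype.ext ?_⟩
    have h := congrArg (AbDual.TateMod.component A l T m) (x.sum_repr z)
    rw [map_sum] at h
    exact h.trans (hz.trans rfl)
  haveI : Finite (tor (l ^ m) : AddSubgroup P) :=
    Nat.finite_of_card_ne_zero (by rw [hcard]; exact pow_ne_zero _ (pow_ne_zero _ hl.out.ne_zero))
  have hfb : Function.Bijective f :=
    (Nat.bijective_iff_surjective_and_card f).2 ⟨hfs, by rw [hcard]; simp⟩
  let G : Subgroup (T ⟶ A) :=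
    { carrier := {a | a ≫ φ = 1 ∧ a ^ (l ^ m) = 1}
      one_mem' := ⟨MonObj.one_comp φ, one_pow _⟩
      mul_mem' := by
        rintro a b ⟨ha, ha'⟩ ⟨hb, hb'⟩
        exact ⟨by rw [MonObj.mul_comp, ha, hb, _root_.mul_one], by rw [_root_.mul_pow, ha', hb', _root_.mul_one]⟩
      inv_mem' := by
        rintro a ⟨ha, ha'⟩
        exact ⟨by rw [GrpObj.inv_comp, ha, _root_.inv_one], by rw [_root_.inv_pow, ha', _root_.inv_one]⟩ }
  have hmem : ∀ i, (xc i (v i)).toMul ∈ G := fun i => by
    refine ⟨?_, ?_⟩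
    · obtain ⟨w, hw⟩ := hx i
      have h := congrArg (AbDual.TateMod.component B l T (v i)) hw
      rw [map_nsmul] at h
      exact congrArg Additive.toMul (h.trans (w.torsion (v i)))
    · have h0 : (l ^ m) • xc i (v i) = 0 := by
        obtain ⟨j, hj⟩ := Nat.exists_eq_add_of_le (hvm i)
        rw [hj, pow_add, mul_comm, mul_nsmul', show (l ^ v i) • xc i (v i) = 0 from (x i).torsion (v i), nsmul_zero]
      exact congrArg Additive.toMul h0
  have hshift : ∀ i, xc i (v i) = (l ^ (m - v i)) • xc i m := fun i => by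
    have : ∀ j, xc i (v i) = (l ^ j) • xc i (v i + j) := fun j => by
      induction j with
      | zero => simp
      | succ j ih => rw [ih, pow_succ, mul_nsmul', show l • xc i (v i + (j + 1)) = xc i (v i + j) from (x i).compat _]
    have h := this (m - v i)
    rwa [Nat.add_sub_cancel' (hvm i)] at h
  let ψ : (∀ i, Fin (l ^ v i)) → G := fun c => ⟨∏ i, (xc i (v i)).toMul ^ (c i : ℕ),
    prod_mem fun i _ => pow_mem (hmem i) _⟩
  have hψ : Function.Injective ψ := fun c c' h => by
    have hlt : ∀ (c : ∀ i, Fin (l ^ v i)) i, (c i : ℕ) * l ^ (m - v i) < l ^ m := fun c i => by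
      calc (c i : ℕ) * l ^ (m - v i) < l ^ v i * l ^ (m - v i) :=
            Nat.mul_lt_mul_of_pos_right (c i).2 (pow_pos hl.out.pos _)
        _ = l ^ m := by rw [← pow_add, Nat.add_sub_cancel' (hvm i)]
    have h' : f (fun i => ⟨_, hlt c i⟩) = f (fun i => ⟨_, hlt c' i⟩) := by
      refine Subtype.ext ?_
      have h0 := congrArg (fun g : G => Additive.ofMul (g : T ⟶ A)) h
      simp only [ψ, ofMul_prod, ofMul_pow, ofMul_toMul] at h0
      simp only [f]
      convert h0 using 2 with i _ i _ <;> rw [hshift, ← mul_nsmul', ]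
    funext i
    have := congrArg Fin.val (congrFun (hfb.1 h') i)
    exact Fin.ext (Nat.eq_of_mul_eq_mul_right (pow_pos hl.out.pos _) this)
  let inc : G → (tor (l ^ m) : AddSubgroup P) := fun a => ⟨Additive.ofMul a.1, congrArg Additive.ofMul a.2.2⟩
  haveI : Finite G := Finite.of_injective inc fun a b h => Subtype.ext (Additive.ofMul.injective (show Additive.ofMul a.1 = Additive.ofMul b.1 from congrArg (fun z => z.1) h))
  obtain ⟨s, hs⟩ := IsPGroup.iff_card.1 (show IsPGroup l G from fun a => ⟨m, Subtype.ext a.2.2⟩)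
  refine ⟨s, G, fun a ha => ha.1, hs, ?_⟩
  have hle := Nat.card_le_card_of_injective ψ hψ
  rw [hs, Nat.card_pi] at hle
  simp only [Nat.card_eq_fintype_card, Fintype.card_fin] at hle
  rw [Finset.prod_pow_eq_pow_sum] at hle
  exact (Nat.pow_le_pow_iff_right hl.out.one_lt).1 hle

end Groth.Agent.AVDegPoly
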