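import Groth.Agent.AVDegPoly.KerCard
import Groth.Agent.AVDegPoly.KerTate
import Groth.Agent.AVHomLib.TateIndep
import Groth.Agent.IsogLib.Field
import Groth.Agent.IsogLib.DualIsog
import Groth.Agent.IsogLib.KernelSub
import Groth.Agent.AVDegLib.MulN
import Groth.Agent.S8121
import Mathlib.LinearAlgebra.FreeModule.PID
import Mathlib.LinearAlgebra.Determinant

/-!
The degree of an isogeny and the determinant on Tate modules have the same valuation.
-/

noncomputable section

set_option autoImplicit false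
set_option linter.style.haveILetI false
set_option linter.unusedSectionVars false
set_option backward.isDefEq.respectTransparency false
set_option backward.isDefEq.respectTransparency.types false
set_option synthInstance.maxHeartbeats 200000
set_option maxHeartbeats 800000

universe u

open CategoryTheory CategoryTheory.Limits MonoidalCategory CartesianMonoidalCategory MonObj AlgebraicGeometry
  TopologicalSpace
open scoped CategoryTheory.Obj

namespace Groth.Agent.AVDegPoly

open AVTorsLib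

section Smith

variable {l : ℕ} [hl : Fact l.Prime] {r : ℕ} {M N : Type*} [AddCommGroup M] [Module ℤ_[l] M] [AddCommGroup N]
  [Module ℤ_[l] N]

theorem valuation_eq_zero_of_isUnit {x : ℤ_[l]} (h : IsUnit x) : x.valuation = 0 := by
  obtain ⟨y, hy⟩ := isUnit_iff_exists_inv.1 h
  have hx : x ≠ 0 := h.ne_zero
  have hy0 : y ≠ 0 := fun h0 => one_ne_zero (α := ℤ_[l]) (by rw [← hy, h0, mul_zero])
  have := congrArg PadicInt.valuation hy
  rw [PadicInt.valuation_mul hx hy0, PadicInt.valuation_one] at this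
  omega

theorem injective_of_det (bM : Module.Basis (Fin r) ℤ_[l] M) (bN : Module.Basis (Fin r) ℤ_[l] N) (f : M →ₗ[ℤ_[l]] N)
    (hdet : (LinearMap.toMatrix bM bN f).det ≠ 0) : Function.Injective f := by
  refine (injective_iff_map_eq_zero f).2 fun m hm => ?_
  have h : (LinearMap.toMatrix bM bN f).mulVec (bM.repr m) = 0 := by
    rw [LinearMap.toMatrix_mulVec_repr, hm, map_zero]
    rfl
  by_contra hne
  refine hdet (Matrix.exists_mulVec_eq_zero_iff.1 ⟨_, fun h0 => hne ?_, h⟩)
  exact bM.repr.injective (by rw [map_zero]; exact Finsupp.ext fun i => congrFun h0 i)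

theorem valuation_natCast (n : ℕ) : (n : ℤ_[l]).valuation = padicValNat l n := by
  have h := PadicInt.valuation_coe (n : ℤ_[l])
  rw [PadicInt.coe_natCast, Padic.valuation_natCast] at h
  exact_mod_cast h.symm

theorem exists_smith (bM : Module.Basis (Fin r) ℤ_[l] M) (bN : Module.Basis (Fin r) ℤ_[l] N) (f : M →ₗ[ℤ_[l]] N)
    (hdet : (LinearMap.toMatrix bM bN f).det ≠ 0) :
    ∃ (x : Module.Basis (Fin r) ℤ_[l] M) (v : Fin r → ℕ), (∀ i, ∃ w, f (x i) = (l ^ v i) • w) ∧
      ∑ i, v i = (LinearMap.toMatrix bM bN f).det.valuation := by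
  classical
  have hinj : Function.Injective f := injective_of_det bM bN f hdet
  have hrank : Module.finrank ℤ_[l] (LinearMap.range f) = Module.finrank ℤ_[l] N := by
    rw [LinearMap.finrank_range_of_inj hinj, Module.finrank_eq_card_basis bM, Module.finrank_eq_card_basis bN]
  obtain ⟨b', a, ab', hab⟩ := Submodule.exists_smith_normal_form_of_rank_eq bN hrank
  let x : Module.Basis (Fin r) ℤ_[l] M := ab'.map (LinearEquiv.ofInjective f hinj).symm
  have hfx : ∀ i, f (x i) = a i • b' i := fun i => by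
    rw [← hab i, Module.Basis.map_apply]
    exact congrArg Subtype.val ((LinearEquiv.ofInjective f hinj).apply_symm_apply (ab' i))
  have hdiag : LinearMap.toMatrix x b' f = Matrix.diagonal a := by
    ext i j
    rw [LinearMap.toMatrix_apply, hfx, map_smul, Module.Basis.repr_self, Finsupp.smul_single, smul_eq_mul, _root_.mul_one,
      Matrix.diagonal_apply, Finsupp.single_apply]
    by_cases h : i = j
    · subst h; simp
    · rw [if_neg h, if_neg fun h' : j = i => h h'.symm]
  have h := basis_toMatrix_mul_linearMap_toMatrix_mul_basis_toMatrix bM x bN b' f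
  have h' := congrArg Matrix.det h
  rw [Matrix.det_mul, Matrix.det_mul, hdiag, Matrix.det_diagonal] at h'
  have hu1 : IsUnit (bN.toMatrix b').det :=
    Matrix.isUnit_det_of_right_inverse (bN.toMatrix_mul_toMatrix_flip b')
  have hu2 : IsUnit (x.toMatrix bM).det :=
    Matrix.isUnit_det_of_right_inverse (x.toMatrix_mul_toMatrix_flip bM)
  rw [← h'] at hdet
  have ha : ∏ i, a i ≠ 0 := fun h0 => hdet (by rw [h0]; simp)
  have ha' : ∀ i, a i ≠ 0 := fun i => Finset.prod_ne_zero_iff.1 ha i (Finset.mem_univ i)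
  refine ⟨x, fun i => (a i).valuation, fun i => ⟨(PadicInt.unitCoeff (ha' i) : ℤ_[l]) • b' i, ?_⟩, ?_⟩
  · rw [hfx]
    conv_lhs => rw [PadicInt.unitCoeff_spec (ha' i)]
    rw [mul_comm, mul_smul, ← Nat.cast_pow, Nat.cast_smul_eq_nsmul]
  · rw [← h', PadicInt.valuation_mul (mul_ne_zero hu1.ne_zero ha) hu2.ne_zero,
      PadicInt.valuation_mul hu1.ne_zero ha, valuation_eq_zero_of_isUnit hu1, valuation_eq_zero_of_isUnit hu2,
      zero_add, add_zero]
    have : ∀ s : Finset (Fin r), (∏ i ∈ s, a i).valuation = ∑ i ∈ s, (a i).valuation := fun s => by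
      induction s using Finset.induction_on with
      | empty => simp [PadicInt.valuation_one]
      | insert i s hi ih =>
        rw [Finset.prod_insert hi, Finset.sum_insert hi,
          PadicInt.valuation_mul (ha' i) (Finset.prod_ne_zero_iff.2 fun j _ => ha' j), ih]
    exact (this Finset.univ).symm

end Smith

section Functorial

variable {S : Scheme.{u}} {A B C : Over S} [GrpObj A] [IsCommMonObj A] [GrpObj B] [IsCommMonObj B] [GrpObj C]
  [IsCommMonObj C] {T : Over S} {l : ℕ} [Fact l.Prime]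

theorem tateMapₗ_comp (φ : A ⟶ B) [IsMonHom φ] (ψ : B ⟶ C) [IsMonHom ψ] (χ : A ⟶ C) [IsMonHom χ] (h : φ ≫ ψ = χ) :
    AbDual.tateMapₗ (l := l) (T := T) χ =
      (AbDual.tateMapₗ (l := l) (T := T) ψ).comp (AbDual.tateMapₗ (l := l) (T := T) φ) := by
  subst h
  exact LinearMap.ext fun x => AbDual.TateMod.ext fun n => congrArg Additive.ofMul (Category.assoc _ _ _).symm

theorem tateMapₗ_pow (n : ℕ) (χ : A ⟶ A) [IsMonHom χ] (h : χ = 𝟙 A ^ n) :
    AbDual.tateMapₗ (l := l) (T := T) χ = (n : ℤ_[l]) • LinearMap.id := by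
  have h1 : EndAV.End.of χ = (n : EndAV.End A) := EndAV.End.ext (by
    rw [EndAV.End.toHom_of, EndAV.End.toHom_natCast, h])
  have h2 := congrArg (EndAV.End.tateRep l T) h1
  rw [map_natCast] at h2
  refine h2.trans (LinearMap.ext fun x => ?_)
  rw [LinearMap.smul_apply, LinearMap.id_apply, Nat.cast_smul_eq_nsmul, Module.End.natCast_apply]

end Functorial

variable {k : Type u} [Field k]
  {A B C : Over (Spec (CommRingCat.of k))}
  [GrpObj A] [IsCommMonObj A] [IsProper A.hom] [GeometricallyIntegral A.hom]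
  [GrpObj B] [IsCommMonObj B] [IsProper B.hom] [GeometricallyIntegral B.hom]
  [GrpObj C] [IsCommMonObj C] [IsProper C.hom] [GeometricallyIntegral C.hom]

attribute [local instance] overHom

theorem exists_vol_pos {g : ℕ} (hg : topologicalKrullDim B.left = g) :
    ∃ c : PicF.Cl B.left, PicF.IsInvertibleCl c ∧ 0 < volCl k B.left g c := by
  haveI : IsIntegral B.left := GeometricallyIntegral.isIntegral_of_subsingleton B.hom
  obtain ⟨L, hL, -⟩ := S8121.result k B
  exact ⟨PicF.cl L, ⟨L, rfl, hL.1⟩, volCl_pos k B.left hL hg⟩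

theorem finrank_const {g : ℕ} (hA : topologicalKrullDim A.left = g) (hB : topologicalKrullDim B.left = g)
    (φ : A ⟶ B) [IsMonHom φ] [IsFinite φ.left] (b b' : B.left) : φ.left.finrank b = φ.left.finrank b' := by
  obtain ⟨c, hc, hv⟩ := exists_vol_pos hB
  exact_mod_cast mul_right_cancel₀ hv.ne' ((vol_pullback φ hA hB hc b).symm.trans (vol_pullback φ hA hB hc b'))

theorem finrank_pos {g : ℕ} (hA : topologicalKrullDim A.left = g) (hB : topologicalKrullDim B.left = g)
    (φ : A ⟶ B) [IsMonHom φ] [IsFinite φ.left] (b : B.left) : 0 < φ.left.finrank b := by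
  haveI : IsIntegral A.left := GeometricallyIntegral.isIntegral_of_subsingleton A.hom
  obtain ⟨hs, hfl, hfp⟩ := finite_props φ hA hB
  exact (Scheme.Hom.one_le_finrank_iff_surjective φ.left).2 hs b

theorem finrank_comp {g : ℕ} (hA : topologicalKrullDim A.left = g) (hB : topologicalKrullDim B.left = g)
    (hC : topologicalKrullDim C.left = g)
    (φ : A ⟶ B) [IsMonHom φ] [IsFinite φ.left] (ψ : B ⟶ C) [IsMonHom ψ] [IsFinite ψ.left]
    (χ : A ⟶ C) [IsMonHom χ] [IsFinite χ.left] (h : φ ≫ ψ = χ) (b : B.left) (c : C.left) :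
    χ.left.finrank c = φ.left.finrank b * ψ.left.finrank c := by
  obtain ⟨d, hd, hv⟩ := exists_vol_pos hC
  have h1 := vol_pullback χ hA hC hd c
  have h2 := vol_pullback φ hA hB (PicClLib.isInvertibleCl_pullCl ψ.left hd) b
  rw [vol_pullback ψ hB hC hd c, PicClLib.pullCl_comp, ← Over.comp_left, h, h1, ← _root_.mul_assoc] at h2
  exact_mod_cast mul_right_cancel₀ hv.ne' h2

variable (Ω : Type u) [Field Ω] [Algebra k Ω]

theorem down_mul {X : Over (Spec (CommRingCat.of k))} [GrpObj X]
    (a b : base Ω ⟶ Red.bc (extMap (k := k) Ω) X) : down Ω (a * b) = down Ω a * down Ω b := by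
  let F := Over.pullback (extMap (k := k) Ω)
  let c : base Ω ⟶ F.obj (X ⊗ X) := lift a b ≫ Functor.LaxMonoidal.μ F X X
  have h : a * b = c ≫ F.map μ[X] := (Category.assoc _ _ _).symm
  have hc : down Ω c = lift (down Ω a) (down Ω b) := by
    refine CartesianMonoidalCategory.hom_ext _ _ ?_ ?_
    · rw [lift_fst, ← AVTorsLib.down_comp, Category.assoc, Functor.Monoidal.μ_fst, lift_fst]
    · rw [lift_snd, ← AVTorsLib.down_comp, Category.assoc, Functor.Monoidal.μ_snd, lift_snd]
  rw [h, AVTorsLib.down_comp, hc]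
  rfl

variable [IsAlgClosed Ω]

theorem natCard_dvd_finrank_geom {g : ℕ} (hA : topologicalKrullDim A.left = g) (hB : topologicalKrullDim B.left = g)
    (φ : A ⟶ B) [IsMonHom φ] [IsFinite φ.left] (G : Subgroup (SGA7.pt (K := k) Ω ⟶ A))
    (hker : ∀ a ∈ G, a ≫ φ = 1) (b : B.left) : Nat.card G ∣ φ.left.finrank b := by
  haveI := (isAV_bc (A := A) Ω).1
  haveI := (isAV_bc (A := A) Ω).2
  haveI := (isAV_bc (A := B) Ω).1
  haveI := (isAV_bc (A := B) Ω).2
  let σ := extMap (k := k) Ω
  let φ' : Red.bc σ A ⟶ Red.bc σ B := (Over.pullback σ).map φ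
  haveI : IsMonHom φ' := inferInstanceAs (IsMonHom ((Over.pullback σ).map φ))
  have hsq := IsogLib.isPullback_map σ φ
  haveI : IsFinite φ'.left := MorphismProperty.of_isPullback hsq ‹IsFinite φ.left›
  obtain ⟨-, hfl, hfp⟩ := finite_props φ hA hB
  let D : (base Ω ⟶ Red.bc σ A) →* (SGA7.pt (K := k) Ω ⟶ A) := MonoidHom.mk' (down Ω) (down_mul Ω)
  let G' : Subgroup (base Ω ⟶ Red.bc σ A) := G.comap D
  have hcard : Nat.card G' = Nat.card G := by
    refine Nat.card_congr (Equiv.ofBijective (fun a : G' => (⟨D a.1, a.2⟩ : G)) ⟨fun a a' h => ?_, fun y => ?_⟩)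
    · exact Subtype.ext (down_injective Ω (congrArg Subtype.val h))
    · obtain ⟨a, ha⟩ := down_surjective Ω y.1
      exact ⟨⟨a, show down Ω a ∈ G by rw [ha]; exact y.2⟩, Subtype.ext ha⟩
  obtain ⟨b'⟩ : Nonempty ↥(Red.bc σ B).left :=
    ⟨(η[Red.bc σ B]).left (IsLocalRing.closedPoint Ω)⟩
  have h := natCard_dvd_finrank φ' (AVHomLib.topologicalKrullDim_bc Ω hA) (AVHomLib.topologicalKrullDim_bc Ω hB) G'
    (fun a ha => down_injective Ω ((AVTorsLib.down_comp Ω a φ).trans ((hker _ ha).trans (down_one Ω).symm))) b'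
  rw [hcard, Scheme.Hom.finrank_of_isPullback _ _ _ _ hsq b'] at h
  rwa [finrank_const hA hB φ b]

variable (l : ℕ) [hl : Fact l.Prime]

theorem finrank_tateMod (hlk : (l : k) ≠ 0) {g : ℕ} (hg : topologicalKrullDim A.left = g) :
    Module.Free ℤ_[l] (AbDual.TateMod A l (SGA7.pt (K := k) Ω)) ∧
      Module.Finite ℤ_[l] (AbDual.TateMod A l (SGA7.pt (K := k) Ω)) ∧
        Module.finrank ℤ_[l] (AbDual.TateMod A l (SGA7.pt (K := k) Ω)) = 2 * g :=
  tateMod_free (pt_divisible Ω l hl.out.one_le) _ (pt_natCard_tor Ω (AVHomLib.topologicalKrullDim_bc Ω hg) l hlk)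

theorem nonempty_basis (hlk : (l : k) ≠ 0) {g : ℕ} (hg : topologicalKrullDim A.left = g) :
    Nonempty (Module.Basis (Fin (2 * g)) ℤ_[l] (AbDual.TateMod A l (SGA7.pt (K := k) Ω))) :=
  nonempty_tateBasis (pt_divisible Ω l hl.out.one_le) _
    (pt_natCard_tor Ω (AVHomLib.topologicalKrullDim_bc Ω hg) l hlk)

theorem valuation_le (hlk : (l : k) ≠ 0) {g : ℕ} (hA : topologicalKrullDim A.left = g)
    (hB : topologicalKrullDim B.left = g) (φ : A ⟶ B) [IsMonHom φ] [IsFinite φ.left]
    (bA : Module.Basis (Fin (2 * g)) ℤ_[l] (AbDual.TateMod A l (SGA7.pt (K := k) Ω)))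
    (bB : Module.Basis (Fin (2 * g)) ℤ_[l] (AbDual.TateMod B l (SGA7.pt (K := k) Ω)))
    (hdet : (LinearMap.toMatrix bA bB (AbDual.tateMapₗ φ)).det ≠ 0) (b : B.left) :
    (LinearMap.toMatrix bA bB (AbDual.tateMapₗ φ)).det.valuation ≤ padicValNat l (φ.left.finrank b) := by
  obtain ⟨x, v, hv, hsum⟩ := exists_smith bA bB _ hdet
  obtain ⟨s, G, hG, hs, hle⟩ := exists_ker_subgroup (pt_divisible Ω l hl.out.one_le) (2 * g) (fun m =>
    pt_natCard_tor Ω (AVHomLib.topologicalKrullDim_bc Ω hA) (l ^ m) (by rw [Nat.cast_pow]; exact pow_ne_zero _ hlk))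
    x φ v hv
  have h := natCard_dvd_finrank_geom Ω hA hB φ G hG b
  rw [hs] at h
  rw [← hsum]
  exact hle.trans ((padicValNat_dvd_iff_le (finrank_pos hA hB φ b).ne').1 h)

/-- The degree of an isogeny and its determinant on Tate modules have the same valuation. -/
theorem valuation_det (hlk : (l : k) ≠ 0) {g : ℕ} (hA : topologicalKrullDim A.left = g)
    (hB : topologicalKrullDim B.left = g) (φ : A ⟶ B) [IsMonHom φ] [IsFinite φ.left]
    (bA : Module.Basis (Fin (2 * g)) ℤ_[l] (AbDual.TateMod A l (SGA7.pt (K := k) Ω)))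
    (bB : Module.Basis (Fin (2 * g)) ℤ_[l] (AbDual.TateMod B l (SGA7.pt (K := k) Ω))) (b : B.left) :
    (LinearMap.toMatrix bA bB (AbDual.tateMapₗ φ)).det ≠ 0 ∧
      padicValNat l (φ.left.finrank b) = (LinearMap.toMatrix bA bB (AbDual.tateMapₗ φ)).det.valuation := by
  obtain ⟨hs, hfl, hfp⟩ := finite_props φ hA hB
  obtain ⟨N, ψ, hN, hψ, hφψ, -, hψf, -, -⟩ := IsogLib.exists_quasiInverse φ
  haveI := hψ
  haveI := hψf
  haveI := AVDegLib.isMonHom_pow (A := A) N
  haveI : IsFinite (𝟙 A ^ N : A ⟶ A).left := by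
    rw [← hφψ, Over.comp_left]
    infer_instance
  obtain ⟨a⟩ : Nonempty A.left := ⟨η[A].left (IsLocalRing.closedPoint k)⟩
  have hdeg : φ.left.finrank b * ψ.left.finrank a = N ^ (2 * g) := by
    rw [← finrank_comp hA hB hA φ ψ _ hφψ b a]
    have h := AVDegLib.finrank_zpow hA (N : ℤ) (by exact_mod_cast (show N ≠ 0 by omega)) a
    simpa only [zpow_natCast, Int.natAbs_natCast] using h
  have hm : (LinearMap.toMatrix bB bA (AbDual.tateMapₗ ψ)).det * (LinearMap.toMatrix bA bB (AbDual.tateMapₗ φ)).det =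
      (N : ℤ_[l]) ^ (2 * g) := by
    rw [← Matrix.det_mul, ← LinearMap.toMatrix_comp bA bB bA, ← tateMapₗ_comp φ ψ _ hφψ, tateMapₗ_pow N _ rfl,
      map_smul, LinearMap.toMatrix_id, Matrix.det_smul, Matrix.det_one, _root_.mul_one, Fintype.card_fin]
  have hN0 : (N : ℤ_[l]) ≠ 0 := by exact_mod_cast (show N ≠ 0 by omega)
  obtain ⟨hdψ, hdφ⟩ := mul_ne_zero_iff.1 (hm ▸ pow_ne_zero (2 * g) hN0)
  refine ⟨hdφ, ?_⟩
  have h1 := valuation_le Ω l hlk hA hB φ bA bB hdφ b
  have h2 := valuation_le Ω l hlk hB hA ψ bB bA hdψ a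
  have h3 := congrArg PadicInt.valuation hm
  rw [PadicInt.valuation_mul hdψ hdφ, PadicInt.valuation_pow, valuation_natCast] at h3
  have h4 := congrArg (padicValNat l) hdeg
  rw [padicValNat.mul (finrank_pos hA hB φ b).ne' (finrank_pos hB hA ψ a).ne', padicValNat.pow _ _] at h4
  omega

theorem det_tateMap_ne_zero (hlk : (l : k) ≠ 0) {g : ℕ} (hA : topologicalKrullDim A.left = g) (φ : A ⟶ A)
    [IsMonHom φ] [IsFinite φ.left] :
    LinearMap.det (AbDual.tateMapₗ (l := l) (T := SGA7.pt (K := k) Ω) φ) ≠ 0 := by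
  obtain ⟨bA⟩ := nonempty_basis (A := A) Ω l hlk hA
  rw [← LinearMap.det_toMatrix bA]
  exact (valuation_det Ω l hlk hA hA φ bA bA (η[A].left (IsLocalRing.closedPoint k))).1

theorem valuation_det_endo (hlk : (l : k) ≠ 0) {g : ℕ} (hA : topologicalKrullDim A.left = g) (φ : A ⟶ A)
    [IsMonHom φ] [IsFinite φ.left] (a : A.left) :
    (LinearMap.det (AbDual.tateMapₗ (l := l) (T := SGA7.pt (K := k) Ω) φ)).valuation =
      padicValNat l (φ.left.finrank a) := by
  obtain ⟨bA⟩ := nonempty_basis (A := A) Ω l hlk hA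
  rw [← LinearMap.det_toMatrix bA]
  exact (valuation_det Ω l hlk hA hA φ bA bA a).2.symm

theorem subsingleton_of_dim_zero {X : Scheme.{u}} [IrreducibleSpace X] (h : topologicalKrullDim X = 0) :
    Subsingleton X := by
  have key : ∀ x : X, closure ({x} : Set X) = Set.univ := by
    intro x
    let Z : IrreducibleCloseds X := ⟨closure {x}, isIrreducible_singleton.closure, isClosed_closure⟩
    let W : IrreducibleCloseds X := ⟨Set.univ, IrreducibleSpace.isIrreducible_univ X, isClosed_univ⟩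
    by_contra hne
    have hlt : Z < W := lt_of_le_of_ne (fun y _ => trivial) fun he => hne (congrArg (fun V : IrreducibleCloseds X => (V : Set X)) he)
    have : Order.krullDim (IrreducibleCloseds X) ≤ 0 := le_of_eq h
    exact (Order.krullDim_nonpos_iff_forall_isMax.1 this Z).not_lt hlt
  exact ⟨fun x y => ((specializes_iff_closure_subset.2 (by simp [key]) : x ⤳ y).antisymm
    (specializes_iff_closure_subset.2 (by simp [key]))).eq⟩

/-- An endomorphism with nonzero determinant on a Tate module is finite. -/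
theorem isFinite_of_det_ne_zero (hlk : (l : k) ≠ 0) {g : ℕ} (hA : topologicalKrullDim A.left = g) (φ : A ⟶ A)
    [IsMonHom φ] (hdet : LinearMap.det (AbDual.tateMapₗ (l := l) (T := SGA7.pt (K := k) Ω) φ) ≠ 0) :
    IsFinite φ.left := by
  obtain ⟨bA⟩ := nonempty_basis (A := A) Ω l hlk hA
  rw [← LinearMap.det_toMatrix bA] at hdet
  have hinj : Function.Injective (AbDual.tateMapₗ (l := l) (T := SGA7.pt (K := k) Ω) φ) :=
    injective_of_det bA bA _ hdet
  haveI := (isAV_bc (A := A) Ω).1
  haveI := (isAV_bc (A := A) Ω).2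
  let σ := extMap (k := k) Ω
  let φ' : Red.bc σ A ⟶ Red.bc σ A := (Over.pullback σ).map φ
  haveI : IsMonHom φ' := inferInstanceAs (IsMonHom ((Over.pullback σ).map φ))
  have hsq := IsogLib.isPullback_map σ φ
  have hfin' : IsFinite φ'.left := by
    refine IsogLib.isFinite_of_finite_ker φ' ?_
    by_contra hinf
    obtain ⟨N, _, j, hj, hjc, hNp, hNi, hns, hjf⟩ := IsogLib.exists_abelian_sub_ker φ' hinf
    haveI := hj
    haveI := hjc
    haveI := hNp
    haveI := hNi
    haveI : IsCommMonObj N := isCommMonObj_of_isProper_of_geometricallyIntegral N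
    haveI : IsIntegral N.left := GeometricallyIntegral.isIntegral_of_subsingleton N.hom
    obtain ⟨h, hh⟩ : ∃ h : ℕ, topologicalKrullDim N.left = h :=
      ⟨_, VarDim.topologicalKrullDim_eq_deg_genericPoint N.hom⟩
    have hh0 : h ≠ 0 := fun h0 => hns (subsingleton_of_dim_zero (by rw [hh, h0]; rfl))
    have hl' : (l : Ω) ≠ 0 := by
      rw [← map_natCast (algebraMap k Ω)]
      exact fun e => hlk ((map_eq_zero _).1 e)
    obtain ⟨hfree, hfinN, hrk⟩ := tateMod_free (A := N) (T := base Ω) (divisible l hl.out.one_le) _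
      (natCard_torA hh l hl')
    haveI := hfree
    haveI := hfinN
    haveI : Nontrivial (AbDual.TateMod N l (base Ω)) :=
      Module.nontrivial_of_finrank_pos (R := ℤ_[l]) (by omega)
    obtain ⟨z, hz⟩ := exists_ne (0 : AbDual.TateMod N l (base Ω))
    let D : (base Ω ⟶ N) →* (SGA7.pt (K := k) Ω ⟶ A) :=
      MonoidHom.mk' (fun a => down Ω (a ≫ j)) fun a a' => by rw [MonObj.mul_comp]; exact down_mul Ω _ _
    let D' : Additive (base Ω ⟶ N) →+ Additive (SGA7.pt (K := k) Ω ⟶ A) := D.toAdditive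
    let x : AbDual.TateMod A l (SGA7.pt (K := k) Ω) :=
      ⟨fun n => D' ((z : ℕ → Additive (base Ω ⟶ N)) n),
        ⟨fun n => by rw [← map_nsmul, z.torsion n, map_zero], fun n => by rw [← map_nsmul, z.compat n]⟩⟩
    have hx : AbDual.tateMapₗ φ x = 0 := AbDual.TateMod.ext fun n => congrArg Additive.ofMul (by
      show down Ω (((z : ℕ → Additive (base Ω ⟶ N)) n).toMul ≫ j) ≫ φ = 1
      rw [← AVTorsLib.down_comp, Category.assoc, show j ≫ (Over.pullback σ).map φ = 1 from hjf, MonObj.comp_one]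
      exact down_one Ω)
    have hx0 : x = 0 := hinj (hx.trans (map_zero _).symm)
    refine hz (AbDual.TateMod.ext fun n => ?_)
    have hn : down Ω (((z : ℕ → Additive (base Ω ⟶ N)) n).toMul ≫ j) = down Ω 1 :=
      (congrArg (fun w : AbDual.TateMod A l (SGA7.pt (K := k) Ω) =>
        ((w : ℕ → Additive (SGA7.pt (K := k) Ω ⟶ A)) n).toMul) hx0).trans (down_one Ω).symm
    have hn' := (down_injective Ω hn).trans (MonObj.one_comp j).symm
    haveI : Mono j := by
      haveI : Mono ((Over.forget _).map j) := inferInstanceAs (Mono j.left)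
      exact (Over.forget _).mono_of_mono_map this
    exact congrArg Additive.ofMul ((cancel_mono j).1 hn')
  haveI : IsProper (φ.left ≫ A.hom) := by rw [Over.w]; infer_instance
  haveI : IsProper φ.left := IsProper.of_comp φ.left A.hom
  haveI : LocallyQuasiFinite φ.left := by
    refine LocallyQuasiFinite.of_finite_preimage_singleton _ fun y => ?_
    haveI : Surjective (pullback.fst A.hom σ) :=
      MorphismProperty.pullback_fst (P := @Surjective) _ _ ⟨fun z => ⟨IsLocalRing.closedPoint Ω,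
        Subsingleton.elim (α := PrimeSpectrum k) _ _⟩⟩
    obtain ⟨z, hz⟩ := (pullback.fst A.hom σ).surjective y
    haveI := hfin'
    refine ((Scheme.Hom.finite_preimage_singleton φ'.left z).image (pullback.fst A.hom σ)).subset fun w hw => ?_
    obtain ⟨o, ho₁, ho₂⟩ := Scheme.exists_preimage_of_isPullback hsq w z ((show φ.left w = y from hw).trans hz.symm)
    exact ⟨o, ho₂, ho₁⟩
  exact IsFinite.of_isProper_of_locallyQuasiFinite φ.left

end Groth.Agent.AVDegPoly
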