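import Groth.Agent.AVDegPoly.SnapperZ
import Groth.Agent.H23.CubeAb
import Groth.Agent.H23.Isogeny
import Groth.Agent.S8121
import Groth.Agent.S19572
import Groth.Agent.S12442
import Groth.Prelude.Def_EndRing

/-!
The degree of endomorphisms of an abelian variety is a homogeneous polynomial of degree `2g`.
-/

noncomputable section

set_option linter.style.haveILetI false
set_option linter.unusedSectionVars false
set_option backward.isDefEq.respectTransparency false
set_option backward.isDefEq.respectTransparency.types false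

universe u

open CategoryTheory CategoryTheory.Limits AlgebraicGeometry MonoidalCategory CartesianMonoidalCategory MonObj
  TopologicalSpace

namespace Groth.Agent.AVDegPoly

open scoped Groth.Agent.H23.PicMul

/-- The biadditive form of a function satisfying the cube identity. -/
theorem exists_bilin {G H : Type*} [AddCommGroup G] [AddCommGroup H] (Q : G → H)
    (hcube : ∀ f g h, Q (f + g + h) + Q f + Q g + Q h = Q (f + g) + Q (f + h) + Q (g + h)) :
    ∃ B : G →+ G →+ H, (∀ f g, B f g = Q (f + g) - Q f - Q g) ∧ ∀ f, B f f = Q f + Q (-f) := by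
  have h0 : Q 0 = 0 := by
    have h := hcube 0 0 0
    simp only [add_zero] at h
    calc Q 0 = (Q 0 + Q 0 + Q 0 + Q 0) - (Q 0 + Q 0 + Q 0) := by abel
      _ = 0 := by rw [h, sub_self]
  have hadd : ∀ f x y, Q (f + (x + y)) - Q f - Q (x + y) = (Q (f + x) - Q f - Q x) + (Q (f + y) - Q f - Q y) :=
    fun f x y => by
      have h := hcube f x y
      rw [← sub_eq_zero] at h ⊢
      rw [← add_assoc, ← h]
      abel
  refine ⟨AddMonoidHom.mk' (fun f => AddMonoidHom.mk' (fun x => Q (f + x) - Q f - Q x) (hadd f))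
    (fun f g => AddMonoidHom.ext fun x => ?_), fun f g => rfl, fun f => ?_⟩
  · have h := hadd x f g
    simp only [AddMonoidHom.mk'_apply, AddMonoidHom.add_apply]
    rw [add_comm x (f + g), add_comm x f, add_comm x g] at h
    rw [← sub_eq_zero] at h ⊢
    rw [← h]
    abel
  · simp only [AddMonoidHom.mk'_apply]
    have h := hcube f f (-f)
    simp only [add_neg_cancel_right, add_neg_cancel, h0] at h
    rw [← sub_eq_zero] at h ⊢
    rw [← neg_inj, neg_zero, ← h]
    abel

variable {k : Type u} [Field k]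

/-- The structure map of the underlying scheme. -/
@[reducible] def overHom (A : Over (Spec (CommRingCat.of k))) : A.left.Over (Spec (CommRingCat.of k)) := ⟨A.hom⟩

attribute [local instance] overHom

variable {A B : Over (Spec (CommRingCat.of k))}

instance [IsProper A.hom] : IsProper (A.left ↘ Spec (CommRingCat.of k)) := ‹IsProper A.hom›

section Pullback

variable [GrpObj A] [IsProper A.hom] [GeometricallyIntegral A.hom]
  [GrpObj B] [IsProper B.hom] [GeometricallyIntegral B.hom]

theorem finite_props (φ : A ⟶ B) [IsMonHom φ] [IsFinite φ.left] {g : ℕ} (hA : topologicalKrullDim A.left = g)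
    (hB : topologicalKrullDim B.left = g) :
    Surjective φ.left ∧ Flat φ.left ∧ LocallyOfFinitePresentation φ.left := by
  haveI : IsIntegral A.left := GeometricallyIntegral.isIntegral_of_subsingleton A.hom
  haveI : IsIntegral B.left := GeometricallyIntegral.isIntegral_of_subsingleton B.hom
  haveI := H23.Isogeny.surjective_of_isFinite A.hom B.hom φ.left (Over.w φ) (hA.trans hB.symm)
  haveI : LocallyOfFinitePresentation (φ.left ≫ B.hom) := by rw [Over.w]; infer_instance
  exact ⟨inferInstance, (S19572.result k A B φ (hA.trans hB.symm)).2,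
    S12442.locallyOfFinitePresentation_of_comp φ.left B.hom⟩

/-- The volume of the pullback under a finite homomorphism. -/
theorem vol_pullback (φ : A ⟶ B) [IsMonHom φ] [IsFinite φ.left] {g : ℕ} (hA : topologicalKrullDim A.left = g)
    (hB : topologicalKrullDim B.left = g) {c : PicF.Cl B.left} (hc : PicF.IsInvertibleCl c) (b : B.left) :
    volCl k A.left g (PicF.pullCl φ.left c) = (φ.left.finrank b : ℤ) * volCl k B.left g c := by
  haveI : IsIntegral A.left := GeometricallyIntegral.isIntegral_of_subsingleton A.hom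
  haveI : IsIntegral B.left := GeometricallyIntegral.isIntegral_of_subsingleton B.hom
  obtain ⟨hs, hfl, hfp⟩ := finite_props φ hA hB
  rw [volCl_pullback k A.left φ.left (Over.w φ) hB hc]
  obtain ⟨U, hU, hb, ⟨e⟩⟩ := H23.CoverPush.crit_of_isFinLocFreeOfRank_push φ.left
    (CurveBC.isFinLocFreeOfRank_push φ.left) b
  letI := H23.CoverPush.alg φ.left U
  haveI : Module.Free Γ(B.left, U) Γ(A.left, φ.left ⁻¹ᵁ U) := Module.Free.of_equiv e.symm
  haveI : Module.Finite Γ(B.left, U) Γ(A.left, φ.left ⁻¹ᵁ U) := Module.Finite.equiv e.symm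
  haveI : Nontrivial Γ(B.left, U) := (B.left.presheaf.germ U b hb).hom.domain_nontrivial
  congr 1
  rw [H23.CoverPush.finrank_eq φ.left hU hb, Module.rankAtStalk_eq_finrank_of_free, e.finrank_eq]
  simp

end Pullback

variable [GrpObj A] [IsProper A.hom] [GeometricallyIntegral A.hom] [IsCommMonObj A]

/-- The degree of the endomorphisms in a finitely generated subgroup is a homogeneous polynomial. -/
theorem exists_deg_poly {g : ℕ} (hg : topologicalKrullDim A.left = g) {e : ℕ} (f : Fin e → EndAV.End A) :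
    ∃ P : MvPolynomial (Fin e) ℚ, P.IsHomogeneous (2 * g) ∧ ∀ n : Fin e → ℤ,
      IsFinite (∑ i, n i • f i).toHom.left → ∀ a : A.left,
        ((∑ i, n i • f i).toHom.left.finrank a : ℚ) = MvPolynomial.eval (fun i => (n i : ℚ)) P := by
  haveI : IsIntegral A.left := GeometricallyIntegral.isIntegral_of_subsingleton A.hom
  obtain ⟨L, hL, ⟨hsym⟩⟩ := S8121.result k A
  have hcI : PicF.IsInvertibleCl (PicF.cl L) := ⟨L, rfl, hL.1⟩
  let cu : (PicF.Cl A.left)ˣ := (H23.PicMul.isUnit_of_isInvertibleCl hcI).unit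
  let Q : EndAV.End A → Additive (PicF.Cl A.left)ˣ := fun φ =>
    Additive.ofMul (Units.map (H23.PicMul.pullHom φ.toHom.left) cu)
  have hQ : ∀ φ : EndAV.End A, ((Q φ).toMul : PicF.Cl A.left) = H23.CubeAb.F (PicF.cl L) φ.toHom := fun φ => rfl
  have hcube : ∀ x y z, Q (x + y + z) + Q x + Q y + Q z = Q (x + y) + Q (x + z) + Q (y + z) := fun x y z => by
    refine Additive.toMul.injective (Units.ext ?_)
    simp only [toMul_add, Units.val_mul, hQ, EndAV.End.toHom_add]
    exact H23.CubeAb.cube hcI x.toHom y.toHom z.toHom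
  obtain ⟨Bf, hBdef, hBf⟩ := exists_bilin Q hcube
  have hneg : ∀ φ : EndAV.End A, Q (-φ) = Q φ := fun φ => by
    refine Additive.toMul.injective (Units.ext ?_)
    simp only [hQ, EndAV.End.toHom_neg]
    rw [show φ.toHom⁻¹ = φ.toHom ≫ (𝟙 A)⁻¹ by rw [GrpObj.comp_inv, Category.comp_id], ← H23.CubeAb.pull_F]
    exact congrArg (H23.PicMul.pullHom φ.toHom.left) (H23.PicMul.cl_eq_iff.2 ⟨hsym.symm⟩)
  let L2 := CohB1.tensorPow L 2
  have hL2 : CohB1.IsAmple L2 := AmpleX.isAmple_tensorPow hL two_pos
  have hv : 0 < volCl k A.left g (PicF.cl L2) := volCl_pos k A.left hL2 hg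
  -- the classes of the pairs
  let u : Fin (e * e) → (PicF.Cl A.left)ˣ := fun p =>
    (Bf (f (finProdFinEquiv.symm p).1) (f (finProdFinEquiv.symm p).2)).toMul
  have hQI : ∀ φ : EndAV.End A, PicF.IsInvertibleCl ((Q φ).toMul : PicF.Cl A.left) := fun φ =>
    PicClLib.isInvertibleCl_pullCl _ hcI
  have huI : ∀ x y : EndAV.End A, PicF.IsInvertibleCl ((Bf x y).toMul : PicF.Cl A.left) := fun x y => by
    rw [hBdef, toMul_sub, toMul_sub, div_eq_mul_inv, div_eq_mul_inv, Units.val_mul, Units.val_mul]
    exact H23.PicMul.isInvertibleCl_mul (H23.PicMul.isInvertibleCl_mul (hQI _) (isInvertibleCl_units _ (hQI _)))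
      (isInvertibleCl_units _ (hQI _))
  obtain ⟨P₀, hP₀, hn₀⟩ := exists_homogeneous_vol k (X := A.left) hg.le u fun p => huI _ _
  let σ : Fin (e * e) → MvPolynomial (Fin e) ℚ := fun p =>
    MvPolynomial.X (finProdFinEquiv.symm p).1 * MvPolynomial.X (finProdFinEquiv.symm p).2
  refine ⟨MvPolynomial.C ((volCl k A.left g (PicF.cl L2) : ℚ)⁻¹) * MvPolynomial.aeval σ P₀, ?_, fun n hfin a => ?_⟩
  · have h : (MvPolynomial.eval₂ MvPolynomial.C σ P₀).IsHomogeneous (2 * g) :=
      hP₀.eval₂ MvPolynomial.C σ (fun r => MvPolynomial.isHomogeneous_C _ r) fun p =>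
        (MvPolynomial.isHomogeneous_X _ _).mul (MvPolynomial.isHomogeneous_X _ _)
    simpa using (MvPolynomial.isHomogeneous_C _ ((volCl k A.left g (PicF.cl L2) : ℚ)⁻¹)).mul
      (show (MvPolynomial.aeval σ P₀).IsHomogeneous (2 * g) from h)
  set φ := ∑ i, n i • f i with hφ
  haveI := hfin
  have hclass : PicF.pullCl φ.toHom.left (PicF.cl L2) =
      ((∏ p, u p ^ (n (finProdFinEquiv.symm p).1 * n (finProdFinEquiv.symm p).2) : (PicF.Cl A.left)ˣ) : PicF.Cl A.left) := by
    have h1 : Bf φ φ = ∑ p, (n (finProdFinEquiv.symm p).1 * n (finProdFinEquiv.symm p).2) •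
        Bf (f (finProdFinEquiv.symm p).1) (f (finProdFinEquiv.symm p).2) := by
      rw [← finProdFinEquiv.sum_comp, Fintype.sum_prod_type, hφ]
      simp only [map_sum, AddMonoidHom.finsetSum_apply, map_zsmul, AddMonoidHom.smul_apply, Finset.smul_sum, smul_smul,
        Equiv.symm_apply_apply]
      rw [Finset.sum_comm]
      exact Finset.sum_congr rfl fun i _ => Finset.sum_congr rfl fun j _ => by rw [mul_comm]
    have h2 := congrArg (fun z : Additive (PicF.Cl A.left)ˣ => (z.toMul : PicF.Cl A.left)) ((hBf φ).symm.trans h1)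
    simp only [hneg, toMul_add, Units.val_mul, hQ, toMul_sum, toMul_zsmul] at h2
    rw [← h2, H23.PicMul.cl_tensorPow, H23.PicMul.pullCl_pow, pow_two]
    rfl
  have h := vol_pullback φ.toHom hg hg ⟨L2, rfl, hL2.1⟩ a
  rw [hclass] at h
  have h' : ((φ.toHom.left.finrank a : ℚ)) * (volCl k A.left g (PicF.cl L2) : ℚ) = MvPolynomial.eval (fun p =>
      ((n (finProdFinEquiv.symm p).1 * n (finProdFinEquiv.symm p).2 : ℤ) : ℚ)) P₀ := by
    rw [← hn₀, h]
    push_cast
    ring
  rw [map_mul, MvPolynomial.eval_C, Snapper.eval_aeval]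
  have hσ : (fun p => MvPolynomial.eval (fun i => (n i : ℚ)) (σ p)) = fun p =>
      ((n (finProdFinEquiv.symm p).1 * n (finProdFinEquiv.symm p).2 : ℤ) : ℚ) := funext fun p => by simp [σ]
  rw [hσ, ← h', mul_comm (φ.toHom.left.finrank a : ℚ), inv_mul_cancel_left₀ (by exact_mod_cast hv.ne')]

end Groth.Agent.AVDegPoly
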