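import Groth.Agent.AVDegLib.Pull
import Groth.Agent.AVTorsLib.Count
import Groth.Agent.AVDegPoly.Quad
import Mathlib.FieldTheory.Galois.Basic

/-!
The order of a finite group of rational points in the kernel of an isogeny divides its degree.
-/

noncomputable section

set_option linter.style.haveILetI false
set_option linter.unusedSectionVars false
set_option backward.isDefEq.respectTransparency false
set_option backward.isDefEq.respectTransparency.types false

universe u

open CategoryTheory CategoryTheory.Limits AlgebraicGeometry MonoidalCategory CartesianMonoidalCategory MonObj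
  TopologicalSpace

namespace Groth.Agent.AVDegPoly

variable {k : Type u} [Field k]

theorem spec_ffMap {A B : Over (Spec (CommRingCat.of k))} [IsIntegral A.left] [IsIntegral B.left]
    (φ : A ⟶ B) [IsFinite φ.left] [Surjective φ.left] :
    Spec.map (CommRingCat.ofHom (AVDegLib.ffMap φ)) ≫ B.left.fromSpecStalk (genericPoint B.left) =
      A.left.fromSpecStalk (genericPoint A.left) ≫ φ.left := by
  rw [← Scheme.SpecMap_stalkMap_fromSpecStalk, ← Scheme.SpecMap_stalkSpecializes_fromSpecStalk
    (show φ.left (genericPoint A.left) ⤳ genericPoint B.left by rw [AVDegLib.map_eta]), ← Category.assoc,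
    ← Spec.map_comp]
  rfl

theorem ffMap_comp {A B C : Over (Spec (CommRingCat.of k))} [IsIntegral A.left] [IsIntegral B.left] [IsIntegral C.left]
    (φ : A ⟶ B) [IsFinite φ.left] [Surjective φ.left] (ψ : B ⟶ C) [IsFinite ψ.left] [Surjective ψ.left]
    (χ : A ⟶ C) [IsFinite χ.left] [Surjective χ.left] (h : φ ≫ ψ = χ) :
    AVDegLib.ffMap χ = (AVDegLib.ffMap φ).comp (AVDegLib.ffMap ψ) := by
  refine congrArg CommRingCat.Hom.hom (a₁ := CommRingCat.ofHom (AVDegLib.ffMap χ))
    (a₂ := CommRingCat.ofHom (AVDegLib.ffMap ψ) ≫ CommRingCat.ofHom (AVDegLib.ffMap φ))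
    (Spec.map_injective ((cancel_mono (C.left.fromSpecStalk (genericPoint C.left))).1 ?_))
  rw [spec_ffMap, Spec.map_comp, Category.assoc, spec_ffMap, ← Category.assoc, spec_ffMap, Category.assoc, ← h]
  rfl

variable [IsAlgClosed k] {A B : Over (Spec (CommRingCat.of k))}
  [GrpObj A] [IsProper A.hom] [GeometricallyIntegral A.hom] [IsCommMonObj A]
  [GrpObj B] [IsProper B.hom] [GeometricallyIntegral B.hom]

/-- The translation by a rational point. -/
abbrev trl (a : AVTorsLib.base k ⟶ A) : A ⟶ A := 𝟙 A * (toUnit A ≫ a)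

theorem trl_one : trl (1 : AVTorsLib.base k ⟶ A) = 𝟙 A := by
  rw [trl, MonObj.comp_one, _root_.mul_one]

theorem trl_mul (a b : AVTorsLib.base k ⟶ A) : trl a ≫ trl b = trl (a * b) := by
  have h1 : trl a ≫ (toUnit A ≫ b) = toUnit A ≫ b := by rw [← Category.assoc, toUnit_unique (trl a ≫ toUnit A) (toUnit A)]
  rw [trl, MonObj.comp_mul, h1, Category.comp_id, trl, _root_.mul_assoc, ← MonObj.comp_mul]

theorem trl_isIso (a : AVTorsLib.base k ⟶ A) : IsIso (trl a).left :=
  ⟨(trl a⁻¹).left, by rw [← Over.comp_left, trl_mul, _root_.mul_inv_cancel, trl_one, Over.id_left],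
    by rw [← Over.comp_left, trl_mul, _root_.inv_mul_cancel, trl_one, Over.id_left]⟩

/-- The order of a finite group of rational points killed by an isogeny divides its degree. -/
theorem natCard_dvd_finrank (φ : A ⟶ B) [IsMonHom φ] [IsFinite φ.left] {g : ℕ}
    (hA : topologicalKrullDim A.left = g) (hB : topologicalKrullDim B.left = g)
    (G : Subgroup (AVTorsLib.base k ⟶ A)) (hker : ∀ a ∈ G, a ≫ φ = 1) (b : B.left) :
    Nat.card G ∣ φ.left.finrank b := by
  haveI : IsIntegral A.left := GeometricallyIntegral.isIntegral_of_subsingleton A.hom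
  haveI : IsIntegral B.left := GeometricallyIntegral.isIntegral_of_subsingleton B.hom
  obtain ⟨hs, hfl, hfp⟩ := finite_props φ hA hB
  rw [AVDegLib.finrank_eq φ b]
  letI := AVDegLib.ffExt φ
  haveI := AVDegLib.finiteDimensional_ff φ
  haveI := fun a : AVTorsLib.base k ⟶ A => trl_isIso a
  haveI : ∀ a : AVTorsLib.base k ⟶ A, IsFinite (trl a).left := fun a => inferInstance
  haveI : ∀ a : AVTorsLib.base k ⟶ A, Surjective (trl a).left := fun a => inferInstance
  have hφ : ∀ a ∈ G, trl a ≫ φ = φ := fun a ha => by
    rw [trl, MonObj.mul_comp, Category.id_comp, Category.assoc, hker a ha, MonObj.comp_one, _root_.mul_one]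
  let K := B.left.functionField
  let E := A.left.functionField
  let m : (AVTorsLib.base k ⟶ A) → (E →+* E) := fun a => AVDegLib.ffMap (trl a)
  have hm : ∀ a b, m (a * b) = (m a).comp (m b) := fun a b => ffMap_comp _ _ _ (trl_mul a b)
  have hm1 : m 1 = RingHom.id E := by
    have h : CommRingCat.ofHom (m 1) = CommRingCat.ofHom (RingHom.id E) :=
      Spec.map_injective ((cancel_mono (A.left.fromSpecStalk (genericPoint A.left))).1 (by
        rw [spec_ffMap, trl_one, Over.id_left, Category.comp_id]
        exact ((congrArg (· ≫ _) (Spec.map_id _)).trans (Category.id_comp _)).symm))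
    exact congrArg CommRingCat.Hom.hom h
  have hfix : ∀ a ∈ G, ∀ x : K, m a (algebraMap K E x) = algebraMap K E x := fun a ha x =>
    (RingHom.congr_fun (ffMap_comp (trl a) φ φ (hφ a ha)) x).symm
  let σ : G →* (E ≃ₐ[K] E) :=
    { toFun := fun a => AlgEquiv.ofBijective ({ m a with commutes' := hfix a a.2 } : E →ₐ[K] E)
        ⟨(m a).injective, fun y => ⟨m (a : AVTorsLib.base k ⟶ A)⁻¹ y, by
          show m a (m _ y) = y
          rw [← RingHom.comp_apply, ← hm, _root_.mul_inv_cancel, hm1]
          rfl⟩⟩
      map_one' := AlgEquiv.ext fun x => RingHom.congr_fun hm1 x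
      map_mul' := fun a b => AlgEquiv.ext fun x => RingHom.congr_fun (hm a b) x }
  have hσ : Function.Injective σ := by
    refine (injective_iff_map_eq_one σ).2 fun a ha => Subtype.ext ?_
    have hma : m a = RingHom.id E := RingHom.ext fun x => AlgEquiv.congr_fun ha x
    have hmor : trl (a : AVTorsLib.base k ⟶ A) = 𝟙 A := by
      haveI : IsDominant (A.left.fromSpecStalk (genericPoint A.left)) :=
        ⟨dense_iff_closure_eq.2 (Set.univ_subset_iff.1 ((genericPoint_closure A.left).ge.trans
          (closure_mono (by rw [Scheme.range_fromSpecStalk]; exact Set.singleton_subset_iff.2 specializes_rfl))))⟩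
      refine Over.OverMorphism.ext (ext_of_isDominant_of_isSeparated A.hom ((Over.w _).trans (Over.w _).symm)
        (A.left.fromSpecStalk (genericPoint A.left)) ?_)
      rw [← spec_ffMap, show AVDegLib.ffMap (trl (a : AVTorsLib.base k ⟶ A)) = RingHom.id E from hma, Over.id_left,
        Category.comp_id]
      exact ((congrArg (· ≫ _) (Spec.map_id _)).trans (Category.id_comp _))
    have := congrArg ((1 : AVTorsLib.base k ⟶ A) ≫ ·) hmor
    simp only [trl, MonObj.comp_mul, Category.comp_id, one_mul, ← Category.assoc] at this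
    rw [toUnit_unique ((1 : AVTorsLib.base k ⟶ A) ≫ toUnit A) (toUnit _), toUnit_unique (toUnit (AVTorsLib.base k)) (𝟙 _),
      Category.id_comp] at this
    rw [_root_.one_mul] at this; exact this
  have hc : Nat.card G = Nat.card σ.range := Nat.card_congr (MonoidHom.ofInjective hσ).toEquiv
  rw [hc, ← IntermediateField.finrank_fixedField_eq_card, ← Module.finrank_mul_finrank K
    (IntermediateField.fixedField σ.range) E]
  exact Dvd.intro_left _ rfl

end Groth.Agent.AVDegPoly
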