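import Groth.Agent.AVDegPoly.Rows
import Mathlib.LinearAlgebra.Matrix.Charpoly.Coeff
import Mathlib.FieldTheory.IsAlgClosed.AlgebraicClosure

/-!
The matrices of endomorphisms over an algebraic closure of the `l`-adic numbers.
-/

noncomputable section

set_option autoImplicit false
set_option linter.style.haveILetI false
set_option linter.unusedSectionVars false
set_option backward.isDefEq.respectTransparency false
set_option backward.isDefEq.respectTransparency.types false
set_option synthInstance.maxHeartbeats 200000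
set_option maxHeartbeats 800000

universe u

open CategoryTheory MonoidalCategory CartesianMonoidalCategory MonObj AlgebraicGeometry

namespace Groth.Agent.AVDegPoly

theorem charpoly_aeval {F : Type*} [Field F] [IsAlgClosed F] {n : ℕ} (M : Matrix (Fin n) (Fin n) F)
    (G : Polynomial F) : (Polynomial.aeval M G).charpoly =
      (M.charpoly.roots.map fun x => Polynomial.X - Polynomial.C (G.eval x)).prod := by
  refine Polynomial.funext fun t => ?_
  rw [Matrix.eval_charpoly, Polynomial.eval_multiset_prod, Multiset.map_map]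
  have h : Matrix.scalar (Fin n) t - Polynomial.aeval M G = Polynomial.aeval M (Polynomial.C t - G) := by
    rw [map_sub, Polynomial.aeval_C]
    rfl
  rw [h, det_aeval, rootsEval_apply]
  simp [Function.comp_def]

variable {k : Type u} [Field k] {A : Over (Spec (CommRingCat.of k))}
  [GrpObj A] [IsCommMonObj A] [IsProper A.hom] [GeometricallyIntegral A.hom]

/-- A faithful family of matrix representations: existence of one of dimension `2g` in which every endomorphism has
its degree polynomial as characteristic polynomial. -/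
theorem exists_rep {g : ℕ} (hg : topologicalKrullDim A.left = g) :
    ∃ (l : ℕ) (_ : Fact l.Prime) (F : EndAV.End A →+* Matrix (Fin (2 * g)) (Fin (2 * g)) (PadicAlgCl l)),
      ∀ (φ : EndAV.End A) (P : Polynomial ℤ),
        (∀ n : ℤ, (IsFinite (φ - (n : EndAV.End A)).toHom.left →
            ∀ a : A.left, ((φ - (n : EndAV.End A)).toHom.left.finrank a : ℤ) = P.eval n) ∧
          (¬ IsFinite (φ - (n : EndAV.End A)).toHom.left → P.eval n = 0)) →
        (F φ).charpoly = P.map (Int.castRingHom (PadicAlgCl l)) := by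
  let Ω := AlgebraicClosure k
  obtain ⟨l, hl, hlk⟩ : ∃ l : ℕ, l.Prime ∧ (l : k) ≠ 0 := by
    by_cases h2 : ((2 : ℕ) : k) = 0
    · refine ⟨3, Nat.prime_three, fun h3 => one_ne_zero (α := k) ?_⟩
      calc (1 : k) = ((3 : ℕ) : k) - ((2 : ℕ) : k) := by norm_num
        _ = 0 := by rw [h3, h2, sub_zero]
    · exact ⟨2, Nat.prime_two, h2⟩
  haveI : Fact l.Prime := ⟨hl⟩
  obtain ⟨hfree, hfin, -⟩ := finrank_tateMod (A := A) Ω l hlk hg
  haveI := hfree
  haveI := hfin
  obtain ⟨b⟩ := nonempty_basis (A := A) Ω l hlk hg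
  let ψ : ℤ_[l] →+* PadicAlgCl l := (algebraMap ℚ_[l] (PadicAlgCl l)).comp PadicInt.Coe.ringHom
  refine ⟨l, inferInstance, (ψ.mapMatrix.comp (LinearMap.toMatrixAlgEquiv b).toRingEquiv.toRingHom).comp
    (EndAV.End.tateRep l (SGA7.pt (K := k) Ω)), fun φ P hP => ?_⟩
  obtain ⟨P₀, -, -, hP₀, hcp⟩ := exists_charpoly hg φ
  obtain rfl : P = P₀ := by
    refine Polynomial.eq_of_infinite_eval_eq _ _ (Set.infinite_univ.mono fun n _ => ?_)
    by_cases h : IsFinite (φ - (n : EndAV.End A)).toHom.left
    · exact ((hP n).1 h (η[A].left (IsLocalRing.closedPoint k))).symm.trans ((hP₀ n).1 h _)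
    · exact ((hP n).2 h).trans ((hP₀ n).2 h).symm
  have h := hcp Ω l hlk
  rw [← LinearMap.charpoly_toMatrix _ b] at h
  show (ψ.mapMatrix (LinearMap.toMatrix b b _)).charpoly = _
  rw [RingHom.mapMatrix_apply, Matrix.charpoly_map, h, Polynomial.map_map]
  congr 1

theorem rep_aeval {R : Type*} [Field R] {n : ℕ} (F : EndAV.End A →+* Matrix (Fin n) (Fin n) R) (φ : EndAV.End A)
    (G : Polynomial ℤ) : F (Polynomial.aeval φ G) = Polynomial.aeval (F φ) (G.map (algebraMap ℤ R)) := by
  rw [Polynomial.aeval_map_algebraMap, Polynomial.aeval_def, Polynomial.aeval_def, Polynomial.hom_eval₂]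
  congr 1
  exact RingHom.ext_int _ _

/-- A representation as a map of `ℤ`-algebras. -/
def repInt {R : Type*} [Field R] {n : ℕ} (F : EndAV.End A →+* Matrix (Fin n) (Fin n) R) :
    EndAV.End A →ₐ[ℤ] Matrix (Fin n) (Fin n) R :=
  AlgHom.mk F fun r =>
    (congrArg F (eq_intCast (algebraMap ℤ (EndAV.End A)) r)).trans ((map_intCast F r).trans (eq_intCast _ r).symm)

/-- The extension of a representation to the rational endomorphism algebra. -/
def rep0 {R : Type*} [Field R] [CharZero R] {n : ℕ} (F : EndAV.End A →+* Matrix (Fin n) (Fin n) R) :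
    EndAV.End0 A →ₐ[ℚ] Matrix (Fin n) (Fin n) R :=
  Algebra.TensorProduct.lift (Algebra.ofId ℚ _) (repInt F) fun q x => Algebra.commutes q _

theorem rep0_toEnd0 {R : Type*} [Field R] [CharZero R] {n : ℕ} (F : EndAV.End A →+* Matrix (Fin n) (Fin n) R)
    (φ : EndAV.End A) : rep0 F (EndAV.toEnd0 φ) = F φ := by
  rw [rep0, EndAV.toEnd0_apply, Algebra.TensorProduct.lift_tmul, map_one, _root_.one_mul]
  rfl

/-- The roots of the characteristic polynomial are roots of every annihilating polynomial. -/
theorem aeval_root_eq_zero {R : Type*} [Field R] [IsAlgClosed R] {n : ℕ} (M : Matrix (Fin n) (Fin n) R)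
    (H : Polynomial R) (h0 : Polynomial.aeval M H = 0) : ∀ x ∈ M.charpoly.roots, H.eval x = 0 := by
  have hS : ∀ s ∈ M.charpoly.roots.map (fun x => H.eval x), s = 0 := by
    refine eq_zero_of_prod_add_eq _ fun t => ?_
    have h := det_aeval M (H + Polynomial.C t)
    rw [map_add, h0, zero_add, Polynomial.aeval_C, Matrix.algebraMap_eq_diagonal, Matrix.det_diagonal,
      rootsEval_apply] at h
    simp only [Pi.algebraMap_apply, Algebra.algebraMap_self, RingHom.id_apply, Finset.prod_const, Finset.card_univ,
      Fintype.card_fin] at h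
    rw [Multiset.map_map, Multiset.card_map, ← (IsAlgClosed.splits M.charpoly).natDegree_eq_card_roots,
      Matrix.charpoly_natDegree_eq_dim, Fintype.card_fin]
    simpa [Function.comp_def] using h.symm
  exact fun x hx => hS _ (Multiset.mem_map_of_mem _ hx)

end Groth.Agent.AVDegPoly
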