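import Groth.Agent.HilbPoly.Pos
import Groth.Agent.Snapper.IsoOn
import Groth.Agent.CurveBC.Etale
import Groth.Agent.QCoh.LocFree

/-!
The top multiplicity of a locally free module, and of the pullback under a finite flat cover.
-/

noncomputable section

set_option linter.style.haveILetI false
set_option linter.unusedSectionVars false
set_option backward.isDefEq.respectTransparency false
set_option backward.isDefEq.respectTransparency.types false

universe u

open CategoryTheory CategoryTheory.Limits AlgebraicGeometry TopologicalSpace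

namespace Groth.Agent.AVDegPoly

open HilbPoly

variable {X : Scheme.{u}}

/-- An additive invariant on free modules. -/
theorem additive_freeMod [IsNoetherian X] {φ : X.Modules → ℤ} (hφ : Additive φ) :
    ∀ n : ℕ, Coh.IsCoh (FlatMod.freeMod X n) ∧ φ (FlatMod.freeMod X n) = n * φ (Coh.structureModule X) := by
  have hcoh : ∀ n : ℕ, Coh.IsCoh (FlatMod.freeMod X n) := fun n =>
    CurveDeg.isCoh_of_isFinLocFree fun x => ⟨⊤, n, trivial, ⟨QCoh.freeModRestrict _ n⟩⟩
  intro n
  refine ⟨hcoh n, ?_⟩
  induction n with
  | zero =>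
    have hz : IsZero (FlatMod.freeMod X 0) :=
      (IsZero.iff_id_eq_zero _).2 (Sigma.hom_ext _ _ fun i => i.elim0)
    rw [hφ.zero_of_isZero hz]
    simp
  | succ n ih =>
    let O := fun _ : Fin (n + 1) => Coh.structureModule X
    let O' := fun _ : Fin n => Coh.structureModule X
    let f : ∐ O' ⟶ ∐ O := Sigma.desc fun i => Sigma.ι O i.castSucc
    let g : ∐ O ⟶ Coh.structureModule X :=
      Sigma.desc fun j => Fin.lastCases (motive := fun _ => Coh.structureModule X ⟶ Coh.structureModule X) (𝟙 _) (fun _ => 0) j
    have w : f ≫ g = 0 := Sigma.hom_ext _ _ fun i => by simp [f, g]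
    have hS : (ShortComplex.mk f g w).ShortExact := ShortComplex.Splitting.shortExact
      { r := Sigma.desc fun j => Fin.lastCases (motive := fun _ => Coh.structureModule X ⟶ ∐ O') 0 (fun i => Sigma.ι O' i) j
        s := Sigma.ι O (Fin.last n)
        f_r := Sigma.hom_ext _ _ fun i => by simp [f]
        s_g := by simp [g]
        id := Sigma.hom_ext _ _ fun j => by
          induction j using Fin.lastCases with
          | last => simp [f, g, O]
          | cast i => simp [f, g, O] }
    have h := hφ.add _ hS (hcoh n) (hcoh (n + 1)) QCoh.isCoh_structureModule'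
    change φ (FlatMod.freeMod X (n + 1)) = φ (FlatMod.freeMod X n) + φ (Coh.structureModule X) at h
    rw [h, ih]
    push_cast
    ring

/-- An additive invariant killing modules supported off `U` agrees on modules isomorphic over `U`. -/
theorem additive_eq_of_iso_restrict [IsNoetherian X] {φ : X.Modules → ℤ} (hφ : Additive φ) {U : X.Opens}
    (hvan : ∀ M : X.Modules, Coh.IsCoh M → CohB1.support M ⊆ (U : Set X)ᶜ → φ M = 0)
    {A B : X.Modules} (hA : Coh.IsCoh A) (hB : Coh.IsCoh B) (e : A.restrict U.ι ≅ B.restrict U.ι) : φ A = φ B := by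
  have key : ∀ {C D : X.Modules}, Coh.IsCoh C → Coh.IsCoh D → ∀ c : C ⟶ D, Snapper.IsoOn U c → φ C = φ D := by
    intro C D hC hD c hc
    obtain ⟨hk, hco⟩ := Snapper.support_subset_compl hc
    have hK := QCoh.isCoh_kernel hC hD c
    have hQ := QCoh.isCoh_cokernel hC.1 hD c
    have hI : Coh.IsCoh (Abelian.image c) :=
      QCoh.isCoh_of_epi (Abelian.factorThruImage c) hC (QCoh.isQCoh_kernel hD.1 hQ.1 _)
    have e1 := hφ.add (ShortComplex.mk (kernel.ι c) (Abelian.factorThruImage c)
        (by rw [← cancel_mono (Abelian.image.ι c), Category.assoc, Abelian.image.fac, kernel.condition, zero_comp]))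
      (.mk' (ShortComplex.exact_of_f_is_kernel _ (by
        exact KernelFork.IsLimit.ofι' (kernel.ι c) _ fun {W} k hk => ⟨kernel.lift c k (by
          rw [← Abelian.image.fac c, ← Category.assoc, hk, zero_comp]), kernel.lift_ι _ _ _⟩))
        inferInstance inferInstance) hK hC hI
    have e2 := hφ.add (ShortComplex.mk (Abelian.image.ι c) (cokernel.π c) (kernel.condition _))
      (.mk' (ShortComplex.exact_of_f_is_kernel _ (kernelIsKernel _)) inferInstance inferInstance) hI hD hQ
    change φ C = φ (kernel c) + φ (Abelian.image c) at e1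
    change φ D = φ (Abelian.image c) + φ (cokernel c) at e2
    rw [hvan _ hK hk, zero_add] at e1
    rw [hvan _ hQ hco, add_zero] at e2
    rw [e1, e2]
  let Q := (Scheme.Modules.pushforward U.ι).obj (B.restrict U.ι)
  have hQ : Coh.IsQCoh Q := QCoh.isQCoh_pushforward U.ι (QCoh.isQCoh_restrict U.ι hB.1)
  obtain ⟨K, I, a, b, c, hK, hI, ha, hb, hc⟩ := Snapper.exists_link hA hB hQ
    (Snapper.resMap U A ≫ (Scheme.Modules.pushforward U.ι).map e.hom) (Snapper.resMap U B)
    (fun x hx => by
      haveI := Snapper.isoOn_resMap U A x hx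
      rw [Functor.map_comp]
      infer_instance) (Snapper.isoOn_resMap U B)
  rw [← key hK hA a ha, key hK hI b hb, ← key hB hI c hc]

variable (k : Type u) [Field k] [X.Over (Spec (CommRingCat.of k))] [IsProper (X ↘ Spec (CommRingCat.of k))]

/-- The top multiplicity of a locally free module is its rank times that of the structure module. -/
theorem mult_finLocFree [IsIntegral X] {L E : X.Modules} (hL : PicF.IsInvertible L) {d r : ℕ}
    (hd : topologicalKrullDim X = d) (hE : FlatMod.IsFinLocFreeOfRank r E) :
    mult k L d E = r * mult k L d (Coh.structureModule X) := by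
  haveI : IsNoetherian X := CurveCohLib.isNoetherian_of_proper (k := k)
  have hA := additive_lead (L := L) (additive_euler k) hL d
  obtain ⟨U, hxU, ⟨e⟩⟩ := hE (genericPoint X)
  obtain ⟨hF, hFr⟩ := additive_freeMod hA r
  rw [← hFr]
  refine additive_eq_of_iso_restrict hA (U := U) (fun M hM hMs => ?_)
    (CurveDeg.isCoh_of_isFinLocFree fun x => let ⟨W, hx, h⟩ := hE x; ⟨W, r, hx, h⟩) hF
    (e ≪≫ (QCoh.freeModRestrict U.ι r).symm)
  refine iterD_eq_zero d (additive_euler k) _ List.length_replicate
    (fun N hN => (List.eq_of_mem_replicate hN) ▸ hL) M hM (dimLT_of_subset hMs ?_)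
  rw [← hd]
  exact H23.TopDim.dim_lt_of_ssubset (by rw [hd]; exact WithBot.coe_inj.not.2 (ENat.natCast_ne_top d)) U.2.isClosed_compl
    fun h => (h.ge (Set.mem_univ (genericPoint X)) : genericPoint X ∈ (U : Set X)ᶜ) hxU

end Groth.Agent.AVDegPoly
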