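import Mathlib.NumberTheory.Padics.Complex
import Mathlib.LinearAlgebra.Matrix.Charpoly.Basic
import Mathlib.LinearAlgebra.Matrix.NonsingularInverse
import Mathlib.RingTheory.Polynomial.GaussLemma
import Mathlib.FieldTheory.Minpoly.Field
import Mathlib.FieldTheory.IsAlgClosed.Basic

/-!
Monic polynomials over the `l`-adic numbers are determined by the sizes of the products of values at their roots.
-/

noncomputable section

set_option autoImplicit false

open Polynomial
open scoped Classical

namespace Groth.Agent.AVDegPoly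

section Field

variable {F : Type*} [Field F]

/-- The product of the values at the roots. -/
def rootsEval (S : Multiset F) : F[X] →* F where
  toFun G := (S.map fun s => G.eval s).prod
  map_one' := by simp
  map_mul' G H := by simp [Multiset.prod_map_mul]

theorem rootsEval_apply (S : Multiset F) (G : F[X]) : rootsEval S G = (S.map fun s => G.eval s).prod := rfl

theorem eq_zero_of_prod_add_eq (S : Multiset F)
    (h : ∀ t : F, (S.map fun s => s + t).prod = t ^ S.card) : ∀ s ∈ S, s = 0 := by
  intro s hs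
  have h0 : (S.map fun x => x + -s).prod = 0 :=
    Multiset.prod_eq_zero (Multiset.mem_map.2 ⟨s, hs, add_neg_cancel s⟩)
  rw [h] at h0
  exact neg_eq_zero.1 (pow_eq_zero_iff (Multiset.card_pos_iff_exists_mem.2 ⟨s, hs⟩).ne' |>.1 h0)

theorem prod_X_sub_C_dvd_pow (S : Multiset F) (H : F[X]) (h : ∀ s ∈ S, H.eval s = 0) :
    (S.map fun s => X - C s).prod ∣ H ^ S.card := by
  induction S using Multiset.induction_on with
  | empty => simp
  | cons a S ih =>
    rw [Multiset.map_cons, Multiset.prod_cons, Multiset.card_cons, pow_succ']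
    exact mul_dvd_mul (dvd_iff_isRoot.2 (h a (Multiset.mem_cons_self a S)))
      (ih fun s hs => h s (Multiset.mem_cons_of_mem hs))

theorem exists_fin_roots [IsAlgClosed F] {G : F[X]} (hG : G.Monic) :
    ∃ c : Fin G.natDegree → F, G = ∏ i, (X - C (c i)) := by
  have hs := IsAlgClosed.splits G
  have hlen : G.roots.toList.length = G.natDegree := by
    rw [Multiset.length_toList, hs.natDegree_eq_card_roots]
  refine ⟨fun i => G.roots.toList.get (i.cast hlen.symm), ?_⟩
  conv_lhs => rw [hs.eq_prod_roots_of_monic hG, ← Multiset.coe_toList G.roots, Multiset.map_coe, Multiset.prod_coe]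
  rw [← Fin.prod_ofFn]
  congr 1
  refine List.ext_getElem (by simp [hlen]) fun i h1 h2 => ?_
  simp

theorem det_aeval [IsAlgClosed F] {n : ℕ} (M : Matrix (Fin n) (Fin n) F) (G : F[X]) :
    (aeval M G).det = rootsEval M.charpoly.roots G := by
  have hs := IsAlgClosed.splits M.charpoly
  have hcard : M.charpoly.roots.card = n := by
    rw [← hs.natDegree_eq_card_roots, Matrix.charpoly_natDegree_eq_dim, Fintype.card_fin]
  let D : F[X] →* F := Matrix.detMonoidHom.comp (aeval M).toRingHom.toMonoidHom
  have hC : ∀ c : F, D (C c) = rootsEval M.charpoly.roots (C c) := fun c => by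
    show (aeval M (C c)).det = _
    rw [aeval_C, Matrix.algebraMap_eq_diagonal, Matrix.det_diagonal, rootsEval_apply]
    simp [hcard]
  have hX : ∀ c : F, D (X - C c) = rootsEval M.charpoly.roots (X - C c) := fun c => by
    show (aeval M (X - C c)).det = _
    rw [map_sub, aeval_X, aeval_C, ← neg_sub (algebraMap F (Matrix (Fin n) (Fin n) F) c) M, Matrix.det_neg,
      Fintype.card_fin, Matrix.algebraMap_eq_diagonal, Pi.algebraMap_def, Algebra.algebraMap_self, RingHom.id_apply,
      ← Matrix.scalar_apply, ← Matrix.eval_charpoly]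
    conv_lhs => rw [hs.eq_prod_roots_of_monic M.charpoly_monic, eval_multiset_prod, Multiset.map_map]
    rw [rootsEval_apply]
    have : ∀ S : Multiset F, (-1 : F) ^ S.card * (S.map fun s => c - s).prod = (S.map fun s => s - c).prod := fun S => by
      induction S using Multiset.induction_on with
      | empty => simp
      | cons a S ih => rw [Multiset.map_cons, Multiset.prod_cons, Multiset.map_cons, Multiset.prod_cons,
          Multiset.card_cons, ← ih]; ring
    have h' := this M.charpoly.roots
    rw [hcard] at h'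
    simpa [Function.comp_def] using h'
  show D G = _
  conv_lhs => rw [(IsAlgClosed.splits G).eq_prod_roots]
  conv_rhs => rw [(IsAlgClosed.splits G).eq_prod_roots]
  simp only [map_mul, map_multiset_prod, Multiset.map_map, Function.comp_def, hC, hX]

end Field

variable (l : ℕ) [Fact l.Prime]

theorem norm_natCast_l : ‖(l : PadicAlgCl l)‖ = (l : ℝ)⁻¹ := by
  rw [← map_natCast (algebraMap ℚ_[l] (PadicAlgCl l)), PadicAlgCl.norm_extends, Padic.norm_p]

theorem exists_norm_prod_add (S : Multiset (PadicAlgCl l)) :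
    ∃ (N₀ : ℕ) (c : ℝ), 0 < c ∧ ∀ N ≥ N₀,
      ‖(S.map fun s => s + (l : PadicAlgCl l) ^ N).prod‖ = ((l : ℝ)⁻¹ ^ N) ^ S.count 0 * c := by
  classical
  induction S using Multiset.induction_on with
  | empty => exact ⟨0, 1, one_pos, fun N _ => by simp⟩
  | cons a S ih =>
    obtain ⟨N₀, c, hc, h⟩ := ih
    by_cases ha : a = 0
    · refine ⟨N₀, c, hc, fun N hN => ?_⟩
      rw [Multiset.map_cons, Multiset.prod_cons, norm_mul, h N hN, ha, zero_add, norm_pow, norm_natCast_l,
        Multiset.count_cons_self, pow_succ]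
      ring
    · obtain ⟨N₁, hN₁⟩ := exists_pow_lt_of_lt_one (norm_pos_iff.2 ha)
        (show (l : ℝ)⁻¹ < 1 from inv_lt_one_of_one_lt₀ (by exact_mod_cast (Fact.out : l.Prime).one_lt))
      refine ⟨max N₀ N₁, ‖a‖ * c, mul_pos (norm_pos_iff.2 ha) hc, fun N hN => ?_⟩
      have hlt : ‖(l : PadicAlgCl l) ^ N‖ < ‖a‖ := by
        rw [norm_pow, norm_natCast_l]
        refine lt_of_le_of_lt (pow_le_pow_of_le_one (by positivity) ?_ (le_of_max_le_right hN)) hN₁
        exact (inv_lt_one_of_one_lt₀ (by exact_mod_cast (Fact.out : l.Prime).one_lt)).le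
      rw [Multiset.map_cons, Multiset.prod_cons, norm_mul, h N (le_of_max_le_left hN),
        IsUltrametricDist.norm_add_eq_max_of_norm_ne_norm hlt.ne', max_eq_left hlt.le,
        Multiset.count_cons_of_ne (Ne.symm ha)]
      ring

theorem count_zero_eq (S S' : Multiset (PadicAlgCl l))
    (h : ∀ N : ℕ, ‖(S.map fun s => s + (l : PadicAlgCl l) ^ N).prod‖ =
      ‖(S'.map fun s => s + (l : PadicAlgCl l) ^ N).prod‖) : S.count 0 = S'.count 0 := by
  obtain ⟨N₀, c, hc, hS⟩ := exists_norm_prod_add l S
  obtain ⟨N₁, c', hc', hS'⟩ := exists_norm_prod_add l S'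
  have hl1 : (1 : ℝ) < l := by exact_mod_cast (Fact.out : l.Prime).one_lt
  set q : ℝ := (l : ℝ)⁻¹
  have hq0 : 0 < q := by positivity
  have hq1 : q < 1 := inv_lt_one_of_one_lt₀ hl1
  set M := max N₀ N₁
  have h1 := h M
  have h2 := h (M + 1)
  rw [hS M (le_max_left _ _), hS' M (le_max_right _ _)] at h1
  rw [hS (M + 1) (by omega), hS' (M + 1) (by omega), pow_succ, mul_pow, mul_pow, mul_right_comm, h1, mul_right_comm] at h2
  exact (pow_right_strictAnti₀ hq0 hq1).injective
    (mul_left_cancel₀ (show ((q ^ M) ^ S'.count 0 * c') ≠ 0 by positivity) (by linear_combination h2))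

/-- Two monic polynomials with the same root counts at every irreducible polynomial are equal. -/
theorem eq_of_counts {P Q : ℚ_[l][X]} (hP : P.Monic) (hQ : Q.Monic) (hd : P.natDegree = Q.natDegree)
    (h : ∀ g : ℚ_[l][X], g.Monic → Irreducible g →
      ((P.aroots (PadicAlgCl l)).map fun x => aeval x g).count 0 =
        ((Q.aroots (PadicAlgCl l)).map fun x => aeval x g).count 0) : P = Q := by
  classical
  induction hn : P.natDegree using Nat.strong_induction_on generalizing P Q with
  | _ n ih =>
    subst hn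
    rcases Nat.eq_zero_or_pos P.natDegree with h0 | hpos
    · rw [hP.natDegree_eq_zero.1 h0, hQ.natDegree_eq_zero.1 (hd ▸ h0)]
    obtain ⟨g, hgm, hgi, hgP⟩ := exists_monic_irreducible_factor P
      (not_isUnit_of_natDegree_pos P hpos)
    obtain ⟨x, hx⟩ := IsAlgClosed.exists_aeval_eq_zero (PadicAlgCl l) g
      (degree_pos_of_irreducible hgi).ne'
    have hxP : x ∈ P.aroots (PadicAlgCl l) :=
      mem_aroots.2 ⟨hP.ne_zero, aeval_eq_zero_of_dvd_aeval_eq_zero hgP hx⟩
    have hpos' : 0 < ((Q.aroots (PadicAlgCl l)).map fun y => aeval y g).count 0 := by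
      rw [← h g hgm hgi]
      exact Multiset.count_pos.2 (Multiset.mem_map.2 ⟨x, hxP, hx⟩)
    obtain ⟨y, hy, hy0⟩ := Multiset.mem_map.1 (Multiset.count_pos.1 hpos')
    have hgQ : g ∣ Q := by
      rw [minpoly.eq_of_irreducible_of_monic hgi hy0 hgm]
      exact minpoly.dvd _ _ (mem_aroots.1 hy).2
    obtain ⟨P', rfl⟩ := hgP
    obtain ⟨Q', rfl⟩ := hgQ
    have hP' := hgm.of_mul_monic_left hP
    have hQ' := hgm.of_mul_monic_left hQ
    rw [hgm.natDegree_mul hP', hgm.natDegree_mul hQ'] at hd
    have hg0 := hgi.natDegree_pos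
    congr 1
    refine ih P'.natDegree (by rw [hgm.natDegree_mul hP']; omega) hP' hQ' (by omega) (fun g' hg'm hg'i => ?_) rfl
    have := h g' hg'm hg'i
    rwa [aroots_mul (mul_ne_zero hgm.ne_zero hP'.ne_zero), aroots_mul (mul_ne_zero hgm.ne_zero hQ'.ne_zero),
      Multiset.map_add, Multiset.map_add, Multiset.count_add, Multiset.count_add, add_right_inj] at this

end Groth.Agent.AVDegPoly
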