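import Groth.Agent.AVDegPoly.CharPoly

/-!
Forms of the degree theorem used by the milestone rows.
-/

noncomputable section

set_option autoImplicit false
set_option linter.style.haveILetI false
set_option linter.unusedSectionVars false
set_option backward.isDefEq.respectTransparency false
set_option backward.isDefEq.respectTransparency.types false
set_option synthInstance.maxHeartbeats 200000

universe u

open CategoryTheory MonoidalCategory CartesianMonoidalCategory MonObj AlgebraicGeometry

namespace Groth.Agent.AVDegPoly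

variable {k : Type u} [Field k]

theorem pt_self : SGA7.pt (K := k) k = AVTorsLib.base k := by
  show Over.mk (Spec.map (CommRingCat.ofHom (algebraMap k k))) = Over.mk (𝟙 _)
  rw [Algebra.algebraMap_self, CommRingCat.ofHom_id, Spec.map_id]

variable {A : Over (Spec (CommRingCat.of k))}
  [GrpObj A] [IsCommMonObj A] [IsProper A.hom] [GeometricallyIntegral A.hom]

theorem sub_intCast_toHom (α : A ⟶ A) [IsMonHom α] (n : ℤ) :
    (EndAV.End.of α - (n : EndAV.End A)).toHom = α * 𝟙 A ^ (-n) := by
  rw [EndAV.End.toHom_sub, EndAV.End.toHom_intCast, EndAV.End.toHom_of, div_eq_mul_inv, zpow_neg]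

theorem add_intCast_toHom (α : A ⟶ A) [IsMonHom α] (n : ℤ) :
    (EndAV.End.of α - ((-n : ℤ) : EndAV.End A)).toHom = α * 𝟙 A ^ n := by
  rw [sub_intCast_toHom, neg_neg]

theorem exists_dim : ∃ g : ℕ, topologicalKrullDim A.left = g :=
  haveI : IsIntegral A.left := GeometricallyIntegral.isIntegral_of_subsingleton A.hom
  ⟨_, VarDim.topologicalKrullDim_eq_deg_genericPoint A.hom⟩

theorem poly_unique {P Q : Polynomial ℚ} (h : ∀ n : ℤ, P.eval (n : ℚ) = Q.eval (n : ℚ)) : P = Q :=
  Polynomial.eq_of_infinite_eval_eq _ _ ((Set.infinite_range_of_injective Int.cast_injective).mono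
    (by rintro _ ⟨n, rfl⟩; exact h n))

theorem charpoly_rat_unique {g : ℕ} (hg : topologicalKrullDim A.left = g) (φ : EndAV.End A) (P : Polynomial ℤ)
    (hP : ∀ n : ℤ, (IsFinite (φ - (n : EndAV.End A)).toHom.left →
        ∀ a : A.left, ((φ - (n : EndAV.End A)).toHom.left.finrank a : ℤ) = P.eval n) ∧
      (¬ IsFinite (φ - (n : EndAV.End A)).toHom.left → P.eval n = 0))
    (Q : Polynomial ℚ)
    (hQ : ∀ n : ℤ, (IsFinite (φ - (n : EndAV.End A)).toHom.left →
        ∀ a : A.left, ((φ - (n : EndAV.End A)).toHom.left.finrank a : ℚ) = Q.eval (n : ℚ)) ∧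
      (¬ IsFinite (φ - (n : EndAV.End A)).toHom.left → Q.eval (n : ℚ) = 0)) :
    Q = P.map (Int.castRingHom ℚ) := by
  refine poly_unique fun n => ?_
  rw [Polynomial.eval_intCast_map, Int.cast_id]
  by_cases h : IsFinite (φ - (n : EndAV.End A)).toHom.left
  · let a := η[A].left (IsLocalRing.closedPoint k)
    rw [← (hQ n).1 h a, eq_intCast, ← (hP n).1 h a, Int.cast_natCast]
  · rw [(hQ n).2 h, (hP n).2 h, map_zero]

end Groth.Agent.AVDegPoly
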