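import Groth.Agent.AVDegPoly.VolCl
import Groth.Agent.Snapper.Multi
import Mathlib.RingTheory.MvPolynomial.Homogeneous
import Mathlib.Algebra.MvPolynomial.Funext

/-!
Volumes of monomials in invertible classes are homogeneous polynomials in the exponents.
-/

noncomputable section

set_option linter.style.haveILetI false
set_option linter.unusedSectionVars false
set_option backward.isDefEq.respectTransparency false
set_option backward.isDefEq.respectTransparency.types false

universe u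

open CategoryTheory AlgebraicGeometry TopologicalSpace

namespace Groth.Agent.AVDegPoly

open scoped Groth.Agent.H23.PicMul

open MvPolynomial

theorem fwdDiff_eval_eq (Q : Polynomial ℚ) {d : ℕ} (hQ : Q.natDegree ≤ d) (f : ℕ → ℤ)
    (hf : ∀ m : ℕ, (f m : ℚ) = Q.eval (m : ℚ)) :
    (((fwdDiff (1 : ℕ))^[d] f 0 : ℤ) : ℚ) = d.factorial * Q.coeff d := by
  have h1 : (((fwdDiff (1 : ℕ))^[d] f 0 : ℤ) : ℚ) = (fwdDiff (1 : ℚ))^[d] Q.eval 0 := by
    rw [fwdDiff_iter_eq_sum_shift, fwdDiff_iter_eq_sum_shift]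
    push_cast
    exact Finset.sum_congr rfl fun j _ => by simp [hf]
  rw [h1]
  rcases hQ.lt_or_eq with hlt | heq
  · rw [Polynomial.fwdDiff_iter_eq_zero_of_degree_lt hlt, Polynomial.coeff_eq_zero_of_natDegree_lt hlt]
    simp
  · subst heq
    rw [Polynomial.fwdDiff_iter_degree_eq_factorial, Polynomial.leadingCoeff]
    simp [mul_comm]

variable (k : Type u) [Field k] {X : Scheme.{u}} [X.Over (Spec (CommRingCat.of k))]
  [IsProper (X ↘ Spec (CommRingCat.of k))]

theorem cl_tensorPows : ∀ {r : ℕ} (L : Fin r → X.Modules) (n : Fin r → ℕ) (F : X.Modules),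
    PicF.cl (Curv2.tensorPows F r L n) = PicF.cl F * ∏ i, PicF.cl (L i) ^ n i
  | 0, _, _, F => by simp [Curv2.tensorPows]
  | r + 1, L, n, F => by
    rw [Curv2.tensorPows, H23.PicMul.cl_tensor, cl_tensorPows, H23.PicMul.cl_tensorPow, Fin.prod_univ_castSucc,
      mul_assoc]

theorem isInvertibleCl_units (u : (PicF.Cl X)ˣ) (hu : PicF.IsInvertibleCl (u : PicF.Cl X)) :
    PicF.IsInvertibleCl ((u⁻¹ : (PicF.Cl X)ˣ) : PicF.Cl X) := by
  obtain ⟨L, hL, hL'⟩ := hu
  obtain ⟨D, hD, e⟩ := H23.PicInv.exists_inverse hL'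
  refine ⟨D, (Units.inv_eq_of_mul_eq_one_right ?_).symm, hD⟩
  rw [← hL]
  exact (PicGrp.cl_eq_cl_iff _ _).2 e

theorem isInvertibleCl_one : PicF.IsInvertibleCl (1 : PicF.Cl X) :=
  ⟨_, rfl, CurveDeg.isInvertible_structureModule⟩

theorem isInvertibleCl_zpow (u : (PicF.Cl X)ˣ) (hu : PicF.IsInvertibleCl (u : PicF.Cl X)) (n : ℤ) :
    PicF.IsInvertibleCl ((u ^ n : (PicF.Cl X)ˣ) : PicF.Cl X) := by
  have hp : ∀ m : ℕ, PicF.IsInvertibleCl ((u ^ m : (PicF.Cl X)ˣ) : PicF.Cl X) := fun m => by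
    induction m with
    | zero => rw [pow_zero]; exact isInvertibleCl_one
    | succ m ih => rw [pow_succ, Units.val_mul]; exact H23.PicMul.isInvertibleCl_mul ih hu
  obtain ⟨m, rfl | rfl⟩ := n.eq_nat_or_neg
  · rw [zpow_natCast]; exact hp m
  · rw [zpow_neg, zpow_natCast]; exact isInvertibleCl_units _ (hp m)

theorem isInvertibleCl_prod {ι : Type*} (s : Finset ι) (f : ι → (PicF.Cl X)ˣ)
    (h : ∀ i ∈ s, PicF.IsInvertibleCl (f i : PicF.Cl X)) : PicF.IsInvertibleCl ((∏ i ∈ s, f i : (PicF.Cl X)ˣ) : PicF.Cl X) :=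
  Finset.prod_induction f (fun u : (PicF.Cl X)ˣ => PicF.IsInvertibleCl (u : PicF.Cl X))
    (fun a b ha hb => by rw [Units.val_mul]; exact H23.PicMul.isInvertibleCl_mul ha hb) isInvertibleCl_one h

/-- The Euler characteristic of a monomial is a polynomial in the integral exponents. -/
theorem exists_poly_eulerCl {d : ℕ} (hd : topologicalKrullDim X ≤ d) {r : ℕ} (u : Fin r → (PicF.Cl X)ˣ)
    (hu : ∀ i, PicF.IsInvertibleCl (u i : PicF.Cl X)) :
    ∃ P : MvPolynomial (Fin r) ℚ, P.totalDegree ≤ d ∧ ∀ n : Fin r → ℤ,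
      (eulerCl k X ((∏ i, u i ^ n i : (PicF.Cl X)ˣ) : PicF.Cl X) : ℚ) = eval (fun i => (n i : ℚ)) P := by
  haveI : IsNoetherian X := CurveCohLib.isNoetherian_of_proper (k := k)
  choose L hL hLI using hu
  have hM : ∀ N : Fin r → ℕ, ∃ P : MvPolynomial (Fin r) ℚ, P.totalDegree ≤ d ∧ ∀ n : Fin r → ℕ,
      (eulerCl k X ((∏ i, u i ^ ((n i : ℤ) - N i) : (PicF.Cl X)ˣ) : PicF.Cl X) : ℚ) = eval (fun i => (n i : ℚ)) P := by
    intro N
    obtain ⟨M, hMcl, hMI⟩ := isInvertibleCl_prod Finset.univ (fun i => u i ^ (-(N i : ℤ)))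
      fun i _ => isInvertibleCl_zpow _ ⟨L i, hL i, hLI i⟩ _
    obtain ⟨P, hP, hPn⟩ := Snapper.exists_mpoly k hLI (CurveDeg.isCoh_of_isInvertible hMI) (d := d)
      ((topologicalKrullDim_subspace_le X _).trans hd)
    refine ⟨P, hP, fun n => ?_⟩
    rw [← hPn n]
    have : ((∏ i, u i ^ ((n i : ℤ) - N i) : (PicF.Cl X)ˣ) : PicF.Cl X) = PicF.cl (Curv2.tensorPows M r L n) := by
      rw [cl_tensorPows, hMcl, Units.coe_prod, Units.coe_prod, ← Finset.prod_mul_distrib]
      refine Finset.prod_congr rfl fun i _ => ?_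
      rw [sub_eq_neg_add, zpow_add, Units.val_mul, zpow_natCast, Units.val_pow_eq_pow_val, hL]
    rw [this]
    rfl
  obtain ⟨P₀, hP₀, hn₀⟩ := hM 0
  refine ⟨P₀, hP₀, fun n => ?_⟩
  let N : Fin r → ℕ := fun i => (n i).natAbs
  obtain ⟨P, -, hPn⟩ := hM N
  have hshift : P = MvPolynomial.aeval (fun i => MvPolynomial.X i - C (N i : ℚ)) P₀ := by
    refine MvPolynomial.funext_set (fun i => Set.range fun m : ℕ => ((m : ℚ) + N i))
      (fun i => Set.infinite_range_of_injective fun a b h => by simpa using h) fun x hx => ?_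
    choose m hm using fun i => hx i trivial
    have hx' : x = fun i => (((m i + N i : ℕ)) : ℚ) := funext fun i => by rw [← hm i]; push_cast; rfl
    rw [hx', ← hPn, Snapper.eval_aeval]
    have h0 : (fun i => MvPolynomial.eval (fun i => (((m i + N i : ℕ)) : ℚ)) (MvPolynomial.X i - C (N i : ℚ))) =
        fun i => ((m i : ℕ) : ℚ) := funext fun i => by simp
    rw [h0, ← hn₀]
    simp
  let m : Fin r → ℕ := fun i => (n i + N i).toNat
  have hm : ∀ i, (m i : ℤ) = n i + N i := fun i => Int.toNat_of_nonneg (by simp only [N]; omega)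
  have h1 := hPn m
  rw [hshift, Snapper.eval_aeval] at h1
  simp only [hm, add_sub_cancel_right] at h1
  rw [h1]
  have h0 : (fun i => MvPolynomial.eval (fun i => (m i : ℚ)) (MvPolynomial.X i - C (N i : ℚ))) = fun i => (n i : ℚ) :=
    funext fun i => by
      rw [map_sub, eval_X, eval_C, show ((m i : ℚ)) = ((m i : ℤ) : ℚ) from by push_cast; rfl, hm]
      push_cast
      ring
  rw [h0]

/-- The volume of a monomial is the top component of the Euler characteristic polynomial. -/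
theorem vol_eq_of_eulerPoly {d : ℕ} {r : ℕ} (u : Fin r → (PicF.Cl X)ˣ) (P : MvPolynomial (Fin r) ℚ)
    (hP : P.totalDegree ≤ d) (hPn : ∀ n : Fin r → ℤ,
      (eulerCl k X ((∏ i, u i ^ n i : (PicF.Cl X)ˣ) : PicF.Cl X) : ℚ) = eval (fun i => (n i : ℚ)) P)
    (n : Fin r → ℤ) :
    (volCl k X d ((∏ i, u i ^ n i : (PicF.Cl X)ˣ) : PicF.Cl X) : ℚ) =
      eval (fun i => (n i : ℚ)) (C (d.factorial : ℚ) * homogeneousComponent d P) := by
  let Q : Polynomial ℚ := MvPolynomial.aeval (fun i => Polynomial.C (n i : ℚ) * Polynomial.X) P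
  have hcoeff : Q.natDegree ≤ d ∧ Q.coeff d = eval (fun i => (n i : ℚ)) (homogeneousComponent d P) := by
    have hmon : ∀ s : Fin r →₀ ℕ, MvPolynomial.aeval (fun i => Polynomial.C (n i : ℚ) * Polynomial.X)
        (monomial s (P.coeff s)) = Polynomial.C (eval (fun i => (n i : ℚ)) (monomial s (P.coeff s))) *
          Polynomial.X ^ s.degree := fun s => by
      rw [aeval_monomial, eval_monomial, Polynomial.algebraMap_eq, map_mul, mul_assoc, Finsupp.prod, Finsupp.prod,
        map_prod, Finsupp.degree_apply, ← Finset.prod_pow_eq_pow_sum, ← Finset.prod_mul_distrib]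
      congr 1
      refine Finset.prod_congr rfl fun i _ => ?_
      rw [mul_pow, map_pow]
    have hQ : Q = ∑ s ∈ P.support, Polynomial.C (eval (fun i => (n i : ℚ)) (monomial s (P.coeff s))) *
          Polynomial.X ^ s.degree := by
      simp only [Q]
      conv_lhs => rw [P.as_sum, map_sum]
      exact Finset.sum_congr rfl fun s _ => hmon s
    have hle : ∀ s ∈ P.support, s.degree ≤ d := fun s hs => by
      rw [Finsupp.degree_apply]
      exact (le_totalDegree hs).trans hP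
    refine ⟨?_, ?_⟩
    · rw [hQ]
      exact Polynomial.natDegree_sum_le_of_forall_le _ _ fun s hs =>
        (Polynomial.natDegree_C_mul_X_pow_le _ _).trans (hle s hs)
    · rw [hQ, Polynomial.finset_sum_coeff, homogeneousComponent_apply, map_sum, Finset.sum_filter]
      refine Finset.sum_congr rfl fun s _ => ?_
      rw [Polynomial.coeff_C_mul, Polynomial.coeff_X_pow]
      simp [eq_comm]
  rw [map_mul, eval_C, ← hcoeff.2]
  refine fwdDiff_eval_eq Q hcoeff.1 _ fun m => ?_
  have h := hPn fun i => (m : ℤ) * n i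
  have he : ((∏ i, u i ^ ((m : ℤ) * n i) : (PicF.Cl X)ˣ) : PicF.Cl X) =
      ((∏ i, u i ^ n i : (PicF.Cl X)ˣ) : PicF.Cl X) ^ m := by
    rw [← Units.val_pow_eq_pow_val, ← Finset.prod_pow]
    refine congrArg Units.val (Finset.prod_congr rfl fun i _ => ?_)
    rw [mul_comm, zpow_mul, zpow_natCast]
  rw [he] at h
  rw [h]
  simp only [Q]
  rw [← Polynomial.coe_evalRingHom, map_aeval, coe_eval₂Hom, eval₂_eq_eval_map]
  have hC : (Polynomial.evalRingHom (m : ℚ)).comp (algebraMap ℚ (Polynomial ℚ)) = RingHom.id ℚ := RingHom.ext fun x => by simp [Polynomial.algebraMap_eq]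
  rw [hC, MvPolynomial.map_id]
  congr 2
  funext i
  simp [mul_comm]

/-- The volume of a monomial is a homogeneous polynomial in the exponents. -/
theorem exists_homogeneous_vol {d : ℕ} (hd : topologicalKrullDim X ≤ d) {r : ℕ} (u : Fin r → (PicF.Cl X)ˣ)
    (hu : ∀ i, PicF.IsInvertibleCl (u i : PicF.Cl X)) :
    ∃ P : MvPolynomial (Fin r) ℚ, P.IsHomogeneous d ∧ ∀ n : Fin r → ℤ,
      (volCl k X d ((∏ i, u i ^ n i : (PicF.Cl X)ˣ) : PicF.Cl X) : ℚ) = eval (fun i => (n i : ℚ)) P := by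
  obtain ⟨P, hP, hPn⟩ := exists_poly_eulerCl k hd u hu
  refine ⟨C (d.factorial : ℚ) * homogeneousComponent d P, ?_, vol_eq_of_eulerPoly k u P hP hPn⟩
  simpa using (isHomogeneous_C _ (d.factorial : ℚ)).mul (homogeneousComponent_isHomogeneous d P)

end Groth.Agent.AVDegPoly
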