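import Groth.Agent.AVDegPoly.RankMult
import Groth.Agent.H23.PicMul

/-!
The volume of a class of invertible modules.
-/

noncomputable section

set_option linter.style.haveILetI false
set_option linter.unusedSectionVars false
set_option backward.isDefEq.respectTransparency false
set_option backward.isDefEq.respectTransparency.types false

universe u

open CategoryTheory CategoryTheory.Limits AlgebraicGeometry TopologicalSpace

namespace Groth.Agent.AVDegPoly

open HilbPoly
open scoped Groth.Agent.H23.PicMul

variable (k : Type u) [Field k] (X : Scheme.{u}) [X.Over (Spec (CommRingCat.of k))]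
  [IsProper (X ↘ Spec (CommRingCat.of k))]

/-- The Euler characteristic of a class. -/
def eulerCl : PicF.Cl X → ℤ :=
  Quot.lift (Curv2.euler k X) fun _ _ e => (additive_euler k).iso _ _ e

/-- The `d`-th difference of the Euler characteristics of the powers of a class. -/
def volCl (d : ℕ) (c : PicF.Cl X) : ℤ := (fwdDiff (1 : ℕ))^[d] (fun m => eulerCl k X (c ^ m)) 0

theorem mult_eq_diff {L F : X.Modules} (hL : PicF.IsInvertible L) (d : ℕ) :
    mult k L d F = (fwdDiff (1 : ℕ))^[d] (fun m => Curv2.euler k X (pw L F m)) 0 := by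
  haveI : IsNoetherian X := CurveCohLib.isNoetherian_of_proper (k := k)
  rw [← iterD_replicate_pw (additive_euler k) hL]
  exact ((additive_lead (additive_euler k) hL d).iso _ _ ⟨AmpleVan.twUnit.app F⟩).symm

theorem eulerCl_pow (L : X.Modules) (m : ℕ) :
    eulerCl k X (PicF.cl L ^ m) = Curv2.euler k X (pw L (Coh.structureModule X) m) := by
  rw [← H23.PicMul.cl_tensorPow]
  exact (additive_euler k).iso _ _ ⟨(CurveTensor.structureTensorIso _).symm⟩

theorem volCl_eq_mult {L : X.Modules} (hL : PicF.IsInvertible L) (d : ℕ) :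
    volCl k X d (PicF.cl L) = mult k L d (Coh.structureModule X) := by
  rw [mult_eq_diff k X hL]
  unfold volCl
  simp only [eulerCl_pow]

/-- The volume of an ample class is positive. -/
theorem volCl_pos [IsIntegral X] {L : X.Modules} (hL : CohB1.IsAmple L) {d : ℕ} (hd : topologicalKrullDim X = d) :
    0 < volCl k X d (PicF.cl L) := by
  haveI : IsNoetherian X := CurveCohLib.isNoetherian_of_proper (k := k)
  rw [volCl_eq_mult k X hL.1]
  have hsupp : CohB1.support (Coh.structureModule X) = Set.univ := Set.eq_univ_of_forall fun x h => by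
    haveI : Subsingleton ((Coh.structureModule X).presheaf.stalk x) := h
    obtain ⟨W, hxW, _, _, he⟩ := (Coh.structureModule X).presheaf.germ_eq x (U := ⊤) (V := ⊤) trivial trivial
      (show Γ(Coh.structureModule X, ⊤) from (1 : Γ(X, ⊤))) 0 (Subsingleton.elim _ _)
    haveI : Nonempty W := ⟨⟨x, hxW⟩⟩
    rw [map_zero] at he
    exact one_ne_zero (α := Γ(X, W)) ((map_one (X.presheaf.map (homOfLE le_top).op).hom).symm.trans he)
  refine ((mult_nonneg_and_pos k hL d _ QCoh.isCoh_structureModule' ?_).2 ?_)
  all_goals rw [hsupp, (Homeomorph.Set.univ X).isHomeomorph.topologicalKrullDim_eq, hd]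

/-- The volume of a pullback under a finite flat cover. -/
theorem volCl_pullback {Y : Scheme.{u}} [Y.Over (Spec (CommRingCat.of k))] [IsProper (Y ↘ Spec (CommRingCat.of k))]
    [IsIntegral X] [IsIntegral Y] (f : X ⟶ Y) [IsFinite f] [Flat f] [LocallyOfFinitePresentation f]
    (hf : f ≫ (Y ↘ Spec (CommRingCat.of k)) = X ↘ Spec (CommRingCat.of k))
    {d : ℕ} (hd : topologicalKrullDim Y = d) {c : PicF.Cl Y} (hc : PicF.IsInvertibleCl c) :
    volCl k X d (PicF.pullCl f c) = (CurveBC.coverDeg f : ℤ) * volCl k Y d c := by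
  haveI : IsNoetherian Y := CurveCohLib.isNoetherian_of_proper (k := k)
  haveI : IsNoetherian X := CurveCohLib.isNoetherian_of_proper (k := k)
  obtain ⟨L, rfl, hL⟩ := hc
  rw [volCl_eq_mult k Y hL, ← mult_finLocFree k hL hd (CurveBC.isFinLocFreeOfRank_push f), mult_eq_diff k Y hL]
  refine congrArg (fun h : ℕ → ℤ => (fwdDiff (1 : ℕ))^[d] h 0) (funext fun m => ?_)
  show eulerCl k X _ = _
  have hM := InvX.isInvertible_tensorPow hL m
  have he : ∀ M : X.Modules, Coh.IsQCoh M →
      Curv2.euler k X M = Curv2.euler k Y ((Scheme.Modules.pushforward f).obj M) := fun M hM =>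
    finsum_congr fun i => by
      obtain ⟨e⟩ := PnCoh.exists_linearEquiv_push k f hf hM i
      rw [e.finrank_eq]
  haveI : EnoughInjectives X.Modules := inferInstance
  obtain ⟨φ⟩ := S0927.result f (Coh.structureModule X) (CohB1.tensorPow L m)
    (fun y => let ⟨W, hy, he⟩ := InvEnd.isFinLocFreeOfRank_one hM y; ⟨W, 1, hy, he⟩) 0
  let ψ := (Scheme.Modules.pushforward f).rightDerivedZeroIsoSelf
  let a : (DCoh.tensorBi.obj (CohB1.tensorPow L m)).obj ((Scheme.Modules.pushforward f).obj (Coh.structureModule X)) ≅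
      (Scheme.Modules.pushforward f).obj ((Scheme.Modules.pullback f).obj (CohB1.tensorPow L m)) :=
    (DCoh.tensorBi.obj (CohB1.tensorPow L m)).mapIso (ψ.app (Coh.structureModule X)).symm ≪≫ φ ≪≫ ψ.app _ ≪≫
      (Scheme.Modules.pushforward f).mapIso (KFlatLib.tensorUnitIso _)
  have h1 : PicF.pullCl f (PicF.cl L) ^ m = PicF.cl ((Scheme.Modules.pullback f).obj (CohB1.tensorPow L m)) := by
    rw [← H23.PicMul.pullCl_pow, ← H23.PicMul.cl_tensorPow]
    rfl
  rw [h1]
  refine (he _ (ProjUPX.isQCoh_of_isInvertible (PicClLib.isInvertible_pullback f hM))).trans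
    ((additive_euler k).iso _ _ ⟨a.symm ≪≫ CurveTensor.commIso _ _⟩)

end Groth.Agent.AVDegPoly
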